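import Groth.Agent.CAlgH3.ArtinFlat

/-!
# Module algebra for lifting quotients along a small extension

`B` is a local ring, `t` a socle element (killed by the maximal ideal), `J = (t)`. A module killed by `J` and
free over `B/J` is recorded through a generating family independent modulo `J`.
-/

set_option autoImplicit false

universe u v

open IsLocalRing Submodule

namespace Groth.Agent.ArtFunLib.QuotLift

variable {B : Type u} [CommRing B] [IsLocalRing B]

/-- `M` is free over `B/J`. -/
structure FreeMod (J : Ideal B) (M : Type v) [AddCommGroup M] [Module B M] : Prop where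
  smul_eq_zero : ∀ a ∈ J, ∀ y : M, a • y = 0
  exists_family : ∃ (ι : Type v) (y : ι → M), span B (Set.range y) = ⊤ ∧
    ∀ c : ι →₀ B, Finsupp.linearCombination B y c = 0 → ∀ i, c i ∈ J

theorem mem_maximalIdeal_of_mul_eq_zero {t : B} (ht : t ≠ 0) {a : B} (h : t * a = 0) : a ∈ maximalIdeal B := by
  by_contra hu
  exact ht ((IsUnit.mul_left_eq_zero (notMem_maximalIdeal.1 hu)).1 h)

theorem freeMod_bot_of_free (G : Type v) [AddCommGroup G] [Module B G] [Module.Free B G] :
    FreeMod (⊥ : Ideal B) G := by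
  refine ⟨fun a ha y => ?_, _, Module.Free.chooseBasis B G, (Module.Free.chooseBasis B G).span_eq, fun c hc i => ?_⟩
  · rw [Ideal.mem_bot] at ha
    rw [ha, zero_smul]
  · rw [linearIndependent_iff.1 (Module.Free.chooseBasis B G).linearIndependent c hc]
    exact Submodule.zero_mem _

variable {t : B} {J : Ideal B}
variable {M G P : Type v} [AddCommGroup M] [Module B M] [AddCommGroup G] [Module B G] [AddCommGroup P] [Module B P]

omit [IsLocalRing B] in
theorem map_smul_top_le (f : G →ₗ[B] M) (I : Ideal B) {x : G} (hx : x ∈ (I • ⊤ : Submodule B G)) :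
    f x ∈ (I • ⊤ : Submodule B M) := by
  have h : f x ∈ Submodule.map f (I • ⊤) := mem_map_of_mem hx
  rw [Submodule.map_smul''] at h
  exact (Submodule.smul_mono le_rfl le_top) h

omit [IsLocalRing B] in
/-- A map with values in the range of an injection factors through it. -/
theorem exists_preimage_map {H : Type*} [AddCommGroup H] [Module B H] (inc : P →ₗ[B] G) (hinc : Function.Injective inc)
    (f : H →ₗ[B] G) (hf : ∀ e, f e ∈ LinearMap.range inc) : ∃ r : H →ₗ[B] P, ∀ e, inc (r e) = f e := by
  choose r hr using fun e => LinearMap.mem_range.1 (hf e)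
  exact ⟨{ toFun := r
           map_add' := fun a b => hinc (by rw [map_add, hr, hr, hr, map_add])
           map_smul' := fun a b => hinc (by rw [RingHom.id_apply, map_smul, hr, hr, map_smul]) }, hr⟩

/-- A lift of a surjection to `M` through a free cover whose kernel is `J`. -/
theorem exists_lift [Module.Free B G] {ι : Type v} {y : ι → M} (hy : span B (Set.range y) = ⊤) (q : G →ₗ[B] M) :
    ∃ Φ : G →ₗ[B] (ι →₀ B), (Finsupp.linearCombination B y).comp Φ = q := by
  have hs : ∀ m : M, ∃ c, Finsupp.linearCombination B y c = m := fun m =>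
    LinearMap.range_eq_top.1 ((Finsupp.range_linearCombination _).trans hy) m
  let b := Module.Free.chooseBasis B G
  choose c hc using fun s => hs (q (b s))
  refine ⟨b.constr ℕ c, b.ext fun s => ?_⟩
  rw [LinearMap.comp_apply, Module.Basis.constr_basis]
  exact hc s

section Kernel

variable [Module.Free B G] (hJ : J = Ideal.span {t}) (hM : FreeMod J M) (q : G →ₗ[B] M) (hq : Function.Surjective q)
  (inc : P →ₗ[B] G) (hinc : Function.Injective inc) (hex : Function.Exact inc q)
  (s : G →ₗ[B] P) (hs : ∀ e, inc (s e) = t • e)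

include hJ hM hq hinc hex hs in
/-- The intersection of the kernel with `m G` is `m P + t G`. -/
theorem exists_sub_mem {p : P} (hp : inc p ∈ (maximalIdeal B • ⊤ : Submodule B G)) :
    ∃ e, p - s e ∈ (maximalIdeal B • ⊤ : Submodule B P) := by
  obtain ⟨ι, y, hy, hind⟩ := hM.exists_family
  obtain ⟨Φ, hΦ⟩ := exists_lift hy q
  choose f hf using fun i => hq (y i)
  let sec : (ι →₀ B) →ₗ[B] G := Finsupp.linearCombination B f
  have hsec : q.comp sec = Finsupp.linearCombination B y :=
    Finsupp.lhom_ext fun i b => by simp [sec, hf]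
  have hqsec : ∀ e, q (e - sec (Φ e)) = 0 := fun e => by
    rw [map_sub, ← LinearMap.comp_apply q sec, hsec, ← LinearMap.comp_apply, hΦ, sub_self]
  obtain ⟨r, hr⟩ := exists_preimage_map inc hinc (LinearMap.id - sec.comp Φ) fun e => (hex _).1 (hqsec e)
  have hcoef : ∀ i, Φ (inc p) i ∈ J := hind _ (by
    rw [← LinearMap.comp_apply, hΦ]
    exact (hex _).2 ⟨p, rfl⟩)
  obtain ⟨e, he⟩ : ∃ e, sec (Φ (inc p)) = t • e := by
    have hd : ∀ i, ∃ d, d * t = Φ (inc p) i := fun i => Ideal.mem_span_singleton'.1 (hJ ▸ hcoef i)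
    choose d hd using hd
    refine ⟨(Φ (inc p)).sum fun i _ => d i • f i, ?_⟩
    rw [Finsupp.smul_sum, Finsupp.linearCombination_apply]
    exact Finsupp.sum_congr fun i _ => by rw [smul_smul, mul_comm, hd]
  refine ⟨e, ?_⟩
  have h1 : r (inc p) = p - s e := hinc (by rw [hr, LinearMap.sub_apply, LinearMap.id_apply, LinearMap.comp_apply, map_sub, hs, he])
  rw [← h1]
  exact map_smul_top_le r _ hp

end Kernel

variable [Module.Free B G]

/-- An element `e` with `t e` in `m P` maps into `m M`. -/
theorem mem_smul_top_of_smul_mem (ht : t ≠ 0) (hmt : ∀ a ∈ maximalIdeal B, a * t = 0) (hJ : J = Ideal.span {t})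
    (hM : FreeMod J M) (q : G →ₗ[B] M) (inc : P →ₗ[B] G) (hex : Function.Exact inc q)
    {p : P} (hp : p ∈ (maximalIdeal B • ⊤ : Submodule B P)) {e : G} (he : inc p = t • e) :
    q e ∈ (maximalIdeal B • ⊤ : Submodule B M) := by
  obtain ⟨ι, y, hy, hind⟩ := hM.exists_family
  obtain ⟨Φ, hΦ⟩ := exists_lift hy q
  have h0 : ∀ x : P, ∀ i, Φ (inc x) i ∈ J := fun x => hind _ (by
    rw [← LinearMap.comp_apply, hΦ]
    exact (hex _).2 ⟨x, rfl⟩)
  have hz : ∀ i, Φ (inc p) i = 0 := fun i => by
    refine Submodule.smul_induction_on hp (fun a ha x _ => ?_) (fun x x' hx hx' => ?_)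
    · obtain ⟨b, hb⟩ := Ideal.mem_span_singleton'.1 (hJ ▸ h0 x i)
      rw [map_smul, map_smul, Finsupp.smul_apply, smul_eq_mul, ← hb, ← mul_assoc, mul_comm a b, mul_assoc,
        hmt a ha, mul_zero]
    · rw [map_add, map_add, Finsupp.add_apply, hx, hx', add_zero]
  rw [← hΦ, LinearMap.comp_apply, Finsupp.linearCombination_apply]
  refine Submodule.sum_mem _ fun i _ => Submodule.smul_mem_smul (mem_maximalIdeal_of_mul_eq_zero ht ?_) mem_top
  have := hz i
  rwa [he, map_smul, Finsupp.smul_apply, smul_eq_mul] at this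

omit [Module.Free B G] in
/-- Freeness of an extension of `M` by `M / mM`. -/
theorem free_of_extension {N : Type v} [AddCommGroup N] [Module B N] (ht : t ≠ 0) (htm : t ∈ maximalIdeal B)
    (hmt : ∀ a ∈ maximalIdeal B, a * t = 0) (hJ : J = Ideal.span {t}) (hM : FreeMod J M) (φ : N →ₗ[B] M)
    (hφ : Function.Surjective φ) (hker : ∀ y, φ y = 0 → ∃ w, y = t • w)
    (hann : ∀ y, t • y = 0 → φ y ∈ (maximalIdeal B • ⊤ : Submodule B M)) : Module.Free B N := by
  obtain ⟨ι, y, hy, hind⟩ := hM.exists_family
  choose z hz using fun i => hφ (y i)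
  have hzc : φ.comp (Finsupp.linearCombination B z) = Finsupp.linearCombination B y :=
    Finsupp.lhom_ext fun i b => by simp [hz]
  have hdec : ∀ x : N, ∃ c w, x = Finsupp.linearCombination B z c + t • w := fun x => by
    obtain ⟨c, hc⟩ := LinearMap.range_eq_top.1 ((Finsupp.range_linearCombination _).trans hy) (φ x)
    obtain ⟨w, hw⟩ := hker (x - Finsupp.linearCombination B z c) (by
      rw [map_sub, ← LinearMap.comp_apply, hzc, hc, sub_self])
    exact ⟨c, w, by rw [← hw]; abel⟩
  have hspan : ⊤ ≤ span B (Set.range z) := fun x _ => by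
    obtain ⟨c, w, rfl⟩ := hdec x
    obtain ⟨c', w', rfl⟩ := hdec w
    rw [smul_add, smul_smul, hmt t htm, zero_smul, add_zero, ← map_smul, ← map_add,
      ← Finsupp.range_linearCombination]
    exact ⟨_, rfl⟩
  refine Module.Free.of_basis (Module.Basis.mk (linearIndependent_iff.2 fun c hc => ?_) hspan)
  have hcJ : ∀ i, c i ∈ J := hind c (by rw [← hzc, LinearMap.comp_apply, hc, map_zero])
  have hd : ∀ i, ∃ d, d * t = c i := fun i => Ideal.mem_span_singleton'.1 (hJ ▸ hcJ i)
  choose d hd using hd
  let c' : ι →₀ B := ∑ i ∈ c.support, Finsupp.single i (d i)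
  have hc' : t • c' = c := by
    classical
    ext i
    simp only [c', Finsupp.smul_apply, Finsupp.finset_sum_apply, Finsupp.single_apply, Finset.sum_ite_eq',
      Finsupp.mem_support_iff, smul_eq_mul]
    split
    · rw [mul_comm, hd]
    · rename_i h
      rw [mul_zero]
      exact (not_not.1 h).symm
  have h1 := hann (Finsupp.linearCombination B z c') (by rw [← map_smul, hc', hc])
  rw [← LinearMap.comp_apply, hzc] at h1
  obtain ⟨g, hg, hge⟩ : ∃ g : ι →₀ B, (∀ i, g i ∈ maximalIdeal B) ∧
      Finsupp.linearCombination B y g = Finsupp.linearCombination B y c' := by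
    refine Submodule.smul_induction_on h1 (fun a ha x _ => ?_) (fun x x' => ?_)
    · obtain ⟨g, hg⟩ := LinearMap.range_eq_top.1 ((Finsupp.range_linearCombination _).trans hy) x
      exact ⟨a • g, fun i => Ideal.mul_mem_right _ _ ha, by rw [map_smul, hg]⟩
    · rintro ⟨g, hg, rfl⟩ ⟨g', hg', rfl⟩
      exact ⟨g + g', fun i => add_mem (hg i) (hg' i), map_add _ _ _⟩
  have hcm : ∀ i, c' i ∈ maximalIdeal B := fun i => by
    have h := hind (c' - g) (by rw [map_sub, hge, sub_self]) i
    have hJm : J ≤ maximalIdeal B := hJ ▸ (Ideal.span_singleton_le_iff_mem _).2 htm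
    have := add_mem (hJm h) (hg i)
    rwa [Finsupp.sub_apply, sub_add_cancel] at this
  rw [← hc']
  ext i
  rw [Finsupp.smul_apply, Finsupp.zero_apply, smul_eq_mul, mul_comm]
  exact hmt _ (hcm i)

omit [IsLocalRing B] [Module.Free B G] in
/-- A submodule with free quotient meets `I G` in `I P`. -/
theorem mem_smul_top_of_free [Module.Free B M] (q : G →ₗ[B] M) (hq : Function.Surjective q) (inc : P →ₗ[B] G)
    (hinc : Function.Injective inc) (hex : Function.Exact inc q) (I : Ideal B) {p : P}
    (hp : inc p ∈ (I • ⊤ : Submodule B G)) : p ∈ (I • ⊤ : Submodule B P) := by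
  obtain ⟨σ, hσ⟩ := Module.projective_lifting_property q LinearMap.id hq
  have hq0 : ∀ e, q (e - σ (q e)) = 0 := fun e => by
    rw [map_sub, ← LinearMap.comp_apply q σ, hσ, LinearMap.id_apply, sub_self]
  obtain ⟨r, hr⟩ := exists_preimage_map inc hinc (LinearMap.id - σ.comp q) fun e => (hex _).1 (hq0 e)
  have h1 : r (inc p) = p := hinc (by
    rw [hr, LinearMap.sub_apply, LinearMap.id_apply, LinearMap.comp_apply, (hex _).2 ⟨p, rfl⟩, map_zero,
      sub_zero])
  rw [← h1]
  exact map_smul_top_le r I hp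

end Groth.Agent.ArtFunLib.QuotLift
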