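import Groth.Agent.ArtFunLib.QuotLift.Setup

/-!
# Extending a quotient along a small thickening of the base

`X` lies over the local Artinian ring `R`, `t` is a socle element and `u : X₀ ⟶ X` is the closed fibre. A quotient
`a : E ⟶ M` with `M` free over `R/(t)` on stalks extends to a quotient free over `R` on stalks as soon as extensions of
the kernel on the closed fibre by the quotient there split; two extensions agree if the homomorphisms vanish.
-/

set_option autoImplicit false
set_option backward.isDefEq.respectTransparency false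
set_option backward.isDefEq.respectTransparency.types false
set_option linter.style.haveILetI false
set_option linter.unusedSectionVars false

universe u

open CategoryTheory CategoryTheory.Limits AlgebraicGeometry Function IsLocalRing

noncomputable section

namespace Groth.Agent.ArtFunLib.QuotLift

instance modulesPullback_isLeftAdjoint {X Y : Scheme.{u}} (f : X ⟶ Y) : (Scheme.Modules.pullback f).IsLeftAdjoint :=
  (Scheme.Modules.pullbackPushforwardAdjunction f).isLeftAdjoint

variable {R R₀ : Type u} [CommRing R] [CommRing R₀] [IsLocalRing R] [IsArtinianRing R] {X X₀ : Scheme.{u}}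
  (p : X ⟶ Spec (CommRingCat.of R)) {p₀ : X₀ ⟶ Spec (CommRingCat.of R₀)} {u : X₀ ⟶ X} [IsClosedImmersion u]
  {ψ : R →+* R₀} (hψ : Surjective ψ) (hkψ : RingHom.ker ψ = maximalIdeal R)
  (hu : IsPullback u p₀ p (Spec.map (CommRingCat.ofHom ψ))) (hsurj : Function.Surjective u)

/-- Membership in `m M`. -/
def InMax (M : X.Modules) (x : X) (m : St M x) : Prop :=
  letI := baseMod p M x
  m ∈ (maximalIdeal R • ⊤ : Submodule R (St M x))

theorem InMax.map {M N : X.Modules} (v : M ⟶ N) {x : X} {m : St M x} (h : InMax p M x m) :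
    InMax p N x (stk v x m) := by
  letI := baseMod p M x
  letI := baseMod p N x
  exact map_smul_top_le (stkR p v x) _ h

theorem InMax.sub {M : X.Modules} {x : X} {m n : St M x} (h : InMax p M x m) (h' : InMax p M x n) :
    InMax p M x (m - n) := by
  letI := baseMod p M x
  exact Submodule.sub_mem _ h h'

theorem InMax.exists_preimage {M N : X.Modules} (v : M ⟶ N) [Epi v] {x : X} {n : St N x} (h : InMax p N x n) :
    ∃ m, InMax p M x m ∧ stk v x m = n := by
  letI := baseMod p M x
  letI := baseMod p N x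
  have h' : n ∈ Submodule.map (stkR p v x) (maximalIdeal R • ⊤ : Submodule R (St M x)) := by
    rw [Submodule.map_smul'', Submodule.map_top,
      LinearMap.range_eq_top.2 (show Function.Surjective (stkR p v x) from surjective_stk v x)]
    exact h
  exact h'

include hψ hkψ hu in
theorem unitSt_eq_zero_iff_inMax (z : X₀) (M : X.Modules) (m : St M (u z)) :
    unitSt u z M m = 0 ↔ InMax p M (u z) m := by
  rw [unitSt_eq_zero_iff_base p hψ hu, hkψ]
  rfl

variable {t : R} (ht : t ≠ 0) (htm : t ∈ maximalIdeal R) (hmt : ∀ a ∈ maximalIdeal R, a * t = 0)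

include hmt in
theorem smul_inMax {M : X.Modules} {x : X} {m : St M x} (h : InMax p M x m) : rho p x t • m = 0 := by
  letI := baseMod p M x
  show t • m = 0
  refine Submodule.smul_induction_on h (fun a ha y _ => ?_) fun a b ha hb => by rw [smul_add, ha, hb, add_zero]
  rw [smul_smul, mul_comm, hmt a ha, zero_smul]

/-- Freeness of all stalks over the base ring. -/
def StFree (N : X.Modules) : Prop :=
  ∀ x, letI := baseMod p N x; Module.Free R (St N x)

include ht in
theorem StFree.inMax_of_smul_eq_zero {N : X.Modules} (hN : StFree p N) {x : X} {y : St N x}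
    (h : rho p x t • y = 0) : InMax p N x y := by
  letI := baseMod p N x
  haveI : Module.Free R (St N x) := hN x
  refine (CAlgH3.mem_smul_top_iff_repr (Module.Free.chooseBasis R (St N x)) _ y).2 fun i =>
    mem_maximalIdeal_of_mul_eq_zero ht ?_
  have h' := DFunLike.congr_fun (congrArg (Module.Free.chooseBasis R (St N x)).repr (show t • y = 0 from h)) i
  simpa [smul_eq_mul] using h'

/-- All stalks are free over `R/(t)`. -/
def StFreeMod (t : R) (M : X.Modules) : Prop :=
  ∀ x, letI := baseMod p M x; FreeMod (Ideal.span {t}) (St M x)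

variable {E M : X.Modules} (hE : StFree p E) (a : E ⟶ M) [Epi a] (hM : StFreeMod p t M)

include hM in
theorem smul_eq_zero (x : X) (m : St M x) : rho p x t • m = 0 := by
  letI := baseMod p M x
  exact (hM x).smul_eq_zero t (Ideal.mem_span_singleton_self t) m

include hM in
theorem scalarEnd_comp : TwSh.scalarEnd E (Coh.toGlobal p t) ≫ a = 0 :=
  hom_eq_zero_of_stk _ fun x s => by
    rw [stk_comp, stk_scalarEnd p]
    exact ((stk a x).map_smul _ _).trans (smul_eq_zero p hM x _)

include hψ hkψ hu hsurj hE ht htm hmt hM in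
/-- Existence of an extension. -/
theorem exists_extension
    (hsplit : ∀ (W : X₀.Modules) (β : (Scheme.Modules.pullback u).obj M ⟶ W)
      (α : W ⟶ kernel ((Scheme.Modules.pullback u).map a)) (w : β ≫ α = 0),
      (ShortComplex.mk β α w).ShortExact → ∃ r, β ≫ r = 𝟙 _) :
    ∃ (s : kernel a ⟶ (Scheme.Modules.pushforward u).obj ((Scheme.Modules.pullback u).obj M))
      (φ : cokernel (kernel.ι s ≫ kernel.ι a) ⟶ M),
      cokernel.π _ ≫ φ = a ∧ StFree p (cokernel (kernel.ι s ≫ kernel.ι a)) ∧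
        ∀ x y, stk φ x y = 0 → ∃ w, y = rho p x t • w := by
  let F := Scheme.Modules.pullback u
  let inc := kernel.ι a
  let τ : E ⟶ kernel a := kernel.lift a (TwSh.scalarEnd E (Coh.toGlobal p t)) (scalarEnd_comp p a hM)
  have hτ : ∀ x (e : St E x), stk inc x (stk τ x e) = rho p x t • e := fun x e => by
    rw [← stk_comp, kernel.lift_ι, stk_scalarEnd p]
  haveI : Epi (F.map a) := F.map_epi a
  let a₀ := F.map a
  let α₀ : F.obj (kernel a) ⟶ kernel a₀ := kernel.lift a₀ (F.map inc) (by rw [← F.map_comp, kernel.condition, F.map_zero])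
  have ha₀ : ∀ z (e : St E (u z)), stk a₀ z (unitSt u z E e) = unitSt u z M (stk a (u z) e) :=
    fun z e => unitSt_natural u z a e
  -- `kernel a` covers the kernel on the closed fibre
  haveI hα₀ : Epi α₀ := Coherent.CohBC.epi_of_surjective_stalks _ fun z k => by
    obtain ⟨e, he⟩ := unitSt_surjective u z E (stk (kernel.ι a₀) z k)
    have h1 : InMax p M (u z) (stk a (u z) e) := by
      refine (unitSt_eq_zero_iff_inMax p hψ hkψ hu z M _).1 ?_
      rw [← ha₀, he, ← stk_comp, kernel.condition, stk_zero]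
    obtain ⟨g, hg, hga⟩ := h1.exists_preimage p a
    obtain ⟨q, hq⟩ := (exact_stk_kernel a (u z) (e - g)).1 (by rw [map_sub, hga, sub_self])
    refine ⟨unitSt u z _ q, injective_stk (kernel.ι a₀) z ?_⟩
    show stk (kernel.ι a₀) z (stk α₀ z (unitSt u z _ q)) = _
    rw [← stk_comp, kernel.lift_ι, unitSt_natural, hq, map_sub, (unitSt_eq_zero_iff_inMax p hψ hkψ hu z E g).2 hg,
      sub_zero, he]
  let m₀ : F.obj (kernel a) ⟶ F.obj (kernel a) := F.map (inc ≫ τ)
  have hm₀ : m₀ ≫ α₀ = 0 := by
    rw [← cancel_mono (kernel.ι a₀), Category.assoc, kernel.lift_ι, ← F.map_comp, Category.assoc, kernel.lift_ι,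
      zero_comp]
    refine hom_eq_zero_of_stk _ fun z w => ?_
    obtain ⟨q, rfl⟩ := unitSt_surjective u z (kernel a) w
    rw [unitSt_natural, stk_comp, stk_scalarEnd p]
    refine (unitSt_eq_zero_iff_inMax p hψ hkψ hu z E _).2 ?_
    letI := baseMod p E (u z)
    exact Submodule.smul_mem_smul (M := St E (u z)) (r := t) htm Submodule.mem_top
  let α : cokernel m₀ ⟶ kernel a₀ := cokernel.desc m₀ α₀ hm₀
  haveI : Epi α := epi_of_epi_fac (cokernel.π_desc m₀ α₀ hm₀)
  have hdesc : kernel.ι a₀ ≫ F.map τ ≫ cokernel.π m₀ = 0 := by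
    rw [← cancel_epi α₀, ← Category.assoc, kernel.lift_ι, ← Category.assoc, ← F.map_comp, comp_zero]
    exact cokernel.condition m₀
  let β : F.obj M ⟶ cokernel m₀ := Abelian.epiDesc a₀ (F.map τ ≫ cokernel.π m₀) hdesc
  have hβ : ∀ z (e : St E (u z)),
      stk β z (unitSt u z M (stk a (u z) e)) = stk (cokernel.π m₀) z (unitSt u z _ (stk τ (u z) e)) := fun z e => by
    rw [← ha₀, ← stk_comp, Abelian.comp_epiDesc, stk_comp, unitSt_natural]
  have w : β ≫ α = 0 := by
    rw [← cancel_epi a₀, Abelian.comp_epiDesc_assoc, Category.assoc, cokernel.π_desc, ← cancel_mono (kernel.ι a₀),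
      Category.assoc, kernel.lift_ι, ← F.map_comp, kernel.lift_ι, comp_zero, zero_comp]
    refine hom_eq_zero_of_stk _ fun z w => ?_
    obtain ⟨e, rfl⟩ := unitSt_surjective u z E w
    rw [unitSt_natural, stk_scalarEnd p]
    refine (unitSt_eq_zero_iff_inMax p hψ hkψ hu z E _).2 ?_
    letI := baseMod p E (u z)
    exact Submodule.smul_mem_smul (M := St E (u z)) (r := t) htm Submodule.mem_top
  have hexact : (ShortComplex.mk β α w).Exact := by
    rw [ShortComplex.exact_iff_epi_kernel_lift]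
    refine Coherent.CohBC.epi_of_surjective_stalks _ fun z k => ?_
    obtain ⟨v, hv⟩ := surjective_stk (cokernel.π m₀) z (stk (kernel.ι α) z k)
    obtain ⟨q, rfl⟩ := unitSt_surjective u z (kernel a) v
    have h1 : InMax p E (u z) (stk inc (u z) q) := by
      refine (unitSt_eq_zero_iff_inMax p hψ hkψ hu z E _).1 ?_
      rw [← unitSt_natural, ← kernel.lift_ι a₀ (F.map inc)
        (by rw [← F.map_comp, kernel.condition, F.map_zero]), stk_comp]
      show stk (kernel.ι a₀) z (stk α₀ z _) = 0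
      have hk0 : stk α z (stk (kernel.ι α) z k) = 0 :=
        (stk_comp (kernel.ι α) α z k).symm.trans
          ((congrArg (fun v => stk v z k) (kernel.condition α)).trans (stk_zero z k))
      rw [← cokernel.π_desc m₀ α₀ hm₀, stk_comp, hv]
      exact (congrArg (stk (kernel.ι a₀) z) hk0).trans (map_zero _)
    obtain ⟨e, he⟩ : ∃ e, InMax p (kernel a) (u z) (q - stk τ (u z) e) := by
      letI := baseMod p E (u z)
      letI := baseMod p M (u z)
      letI := baseMod p (kernel a) (u z)
      haveI : Module.Free R (St E (u z)) := hE _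
      exact exists_sub_mem rfl (hM _) (stkR p a (u z)) (surjective_stk a _) (stkR p inc (u z))
        (injective_stk inc _) (exact_stk_kernel a _) (stkR p τ (u z)) (hτ _) h1
    refine ⟨unitSt u z M (stk a (u z) e), injective_stk (kernel.ι α) z ?_⟩
    show stk (kernel.ι α) z (stk (kernel.lift α β w) z _) = _
    rw [← stk_comp, kernel.lift_ι, hβ, ← hv]
    refine congrArg (stk (cokernel.π m₀) z) (sub_eq_zero.1 ?_).symm
    rw [← map_sub]
    exact (unitSt_eq_zero_iff_inMax p hψ hkψ hu z _ _).2 he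
  haveI : Mono β := Coherent.CohBC.mono_of_injective_stalks _ fun z => by
    refine (injective_iff_map_eq_zero (stk β z)).2 fun v hv => ?_
    obtain ⟨m, rfl⟩ := unitSt_surjective u z M v
    obtain ⟨e, rfl⟩ := surjective_stk a (u z) m
    rw [hβ] at hv
    obtain ⟨v', hv'⟩ := exists_preimage_of_exact _ (ShortComplex.cokernelSequence_exact m₀) z _ hv
    obtain ⟨q, rfl⟩ := unitSt_surjective u z (kernel a) v'
    change stk (F.map (inc ≫ τ)) z _ = _ at hv'
    rw [unitSt_natural, stk_comp] at hv'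
    have hd : InMax p (kernel a) (u z) (stk τ (u z) (e - stk inc (u z) q)) := by
      refine (unitSt_eq_zero_iff_inMax p hψ hkψ hu z _ _).1 ?_
      rw [map_sub, map_sub, hv', sub_self]
    refine (unitSt_eq_zero_iff_inMax p hψ hkψ hu z M _).2 ?_
    have h := (exact_stk_kernel a (u z) (stk inc (u z) q)).2 ⟨q, rfl⟩
    letI := baseMod p E (u z)
    letI := baseMod p M (u z)
    letI := baseMod p (kernel a) (u z)
    haveI : Module.Free R (St E (u z)) := hE _
    have h2 : InMax p M (u z) (stk a (u z) (e - stk inc (u z) q)) :=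
      mem_smul_top_of_smul_mem ht hmt rfl (hM _) (stkR p a (u z)) (stkR p inc (u z)) (exact_stk_kernel a _) hd
        (hτ _ _)
    rwa [map_sub, h, sub_zero] at h2
  obtain ⟨r, hr⟩ := hsplit _ β α w { exact := hexact, mono_f := inferInstance, epi_g := inferInstance }
  let s := (Scheme.Modules.pullbackPushforwardAdjunction u).homEquiv _ _ (cokernel.π m₀ ≫ r)
  have hs : ∀ z (e : St E (u z)), stk s (u z) (stk τ (u z) e) = 0 ↔ InMax p M (u z) (stk a (u z) e) := fun z e => by
    rw [stk_eq_zero_iff_of_adjoint, stk_comp, ← hβ, ← stk_comp, hr, stk_id, ← unitSt_eq_zero_iff_inMax p hψ hkψ hu z M]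
  have hdecomp : ∀ z (q : St (kernel a) (u z)), ∃ e, stk s (u z) (q - stk τ (u z) e) = 0 := fun z q => by
    obtain ⟨m, hm⟩ := unitSt_surjective u z M (stk r z (stk (cokernel.π m₀) z (unitSt u z _ q)))
    obtain ⟨e, rfl⟩ := surjective_stk a (u z) m
    refine ⟨e, (stk_eq_zero_iff_of_adjoint u z _ _).2 ?_⟩
    rw [map_sub, map_sub, stk_comp, stk_comp, ← hβ, ← hm, ← stk_comp, hr, stk_id, sub_eq_zero]
  let ι' := kernel.ι s ≫ kernel.ι a
  let π := cokernel.π ι'
  let φ : cokernel ι' ⟶ M := cokernel.desc ι' a (by rw [Category.assoc, kernel.condition, comp_zero])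
  have hker : ∀ x y, stk φ x y = 0 → ∃ w, y = rho p x t • w := by
    intro x y hy
    obtain ⟨z, rfl⟩ := hsurj x
    obtain ⟨e, rfl⟩ := surjective_stk π (u z) y
    rw [← stk_comp, cokernel.π_desc] at hy
    obtain ⟨q, rfl⟩ := (exact_stk_kernel a (u z) e).1 hy
    obtain ⟨e', he'⟩ := hdecomp z q
    obtain ⟨k, hk⟩ := (exact_stk_kernel s (u z) _).1 he'
    refine ⟨stk π (u z) e', ?_⟩
    have h0 : stk π (u z) (stk (kernel.ι a) (u z) (q - stk τ (u z) e')) = 0 := by
      rw [← hk, ← stk_comp (kernel.ι s), ← stk_comp, cokernel.condition, stk_zero]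
    rw [map_sub, map_sub, sub_eq_zero, hτ] at h0
    exact h0.trans ((stk π (u z)).map_smul _ _)
  refine ⟨s, φ, cokernel.π_desc _ _ _, fun x => ?_, hker⟩
  obtain ⟨z, rfl⟩ := hsurj x
  letI := baseMod p (cokernel ι') (u z)
  letI := baseMod p M (u z)
  refine free_of_extension ht htm hmt rfl (hM (u z)) (stkR p φ (u z)) ?_ (hker _) ?_
  · haveI : Epi φ := epi_of_epi_fac (cokernel.π_desc ι' a _)
    exact surjective_stk φ _
  · intro y hy
    obtain ⟨e, rfl⟩ := surjective_stk π (u z) y
    change rho p (u z) t • stk π (u z) e = 0 at hy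
    rw [← (stk π (u z)).map_smul] at hy
    obtain ⟨k, hk⟩ := exists_preimage_of_exact _ (ShortComplex.cokernelSequence_exact ι') (u z) _ hy
    change stk ι' (u z) k = _ at hk
    rw [stk_comp, ← hτ] at hk
    have h0 := (hs z e).1 (by rw [← injective_stk inc (u z) hk, ← stk_comp, kernel.condition, stk_zero])
    show InMax p M (u z) (stk φ (u z) (stk π (u z) e))
    rwa [← stk_comp, cokernel.π_desc]

include hψ hkψ hu hsurj ht htm hmt hM in
/-- Uniqueness of the extension. -/
theorem extension_le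
    (hzero : ∀ v : kernel ((Scheme.Modules.pullback u).map a) ⟶ (Scheme.Modules.pullback u).obj M, v = 0)
    {Q₁ Q₂ : X.Modules} (q₁ : E ⟶ Q₁) [Epi q₁] (φ₁ : Q₁ ⟶ M) (h₁ : q₁ ≫ φ₁ = a) (hQ₁ : StFree p Q₁)
    (hk₁ : ∀ x y, stk φ₁ x y = 0 → ∃ w, y = rho p x t • w)
    (q₂ : E ⟶ Q₂) [Epi q₂] (φ₂ : Q₂ ⟶ M) (h₂ : q₂ ≫ φ₂ = a) (hQ₂ : StFree p Q₂)
    (hk₂ : ∀ x y, stk φ₂ x y = 0 → ∃ w, y = rho p x t • w) : kernel.ι q₁ ≫ q₂ = 0 := by
  let F := Scheme.Modules.pullback u
  let a₀ := F.map a
  haveI : Epi φ₁ := epi_of_epi_fac h₁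
  have hmax : ∀ (z : X₀) (y : St Q₁ (u z)), InMax p M (u z) (stk φ₁ (u z) y) → InMax p Q₁ (u z) y := by
    intro z y hy
    obtain ⟨g, hg, hge⟩ := hy.exists_preimage p φ₁
    obtain ⟨w, hw⟩ := hk₁ _ (y - g) (by rw [map_sub, hge, sub_self])
    letI := baseMod p Q₁ (u z)
    have h := Submodule.add_mem _ (Submodule.smul_mem_smul (M := St Q₁ (u z)) (r := t) htm
      (Submodule.mem_top (x := w))) hg
    rwa [show t • w + g = y by show rho p (u z) t • w + g = y; rw [← hw, sub_add_cancel]] at h
  -- the kernel on the closed fibre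
  let j := kernel.ι q₁
  have hja : j ≫ a = 0 := by rw [← h₁, ← Category.assoc, kernel.condition, zero_comp]
  have hγw : F.map j ≫ a₀ = 0 := by rw [← F.map_comp, hja, F.map_zero]
  let γ : F.obj (kernel q₁) ⟶ kernel a₀ := kernel.lift a₀ (F.map j) hγw
  haveI : Mono γ := Coherent.CohBC.mono_of_injective_stalks _ fun z => by
    refine (injective_iff_map_eq_zero (stk γ z)).2 fun v hv => ?_
    obtain ⟨k, rfl⟩ := unitSt_surjective u z _ v
    have h1 : InMax p E (u z) (stk j (u z) k) := by
      refine (unitSt_eq_zero_iff_inMax p hψ hkψ hu z E _).1 ?_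
      rw [← unitSt_natural, ← kernel.lift_ι a₀ (F.map j) hγw, stk_comp, hv, map_zero]
    refine (unitSt_eq_zero_iff_inMax p hψ hkψ hu z _ _).2 ?_
    letI := baseMod p E (u z)
    letI := baseMod p Q₁ (u z)
    letI := baseMod p (kernel q₁) (u z)
    haveI : Module.Free R (St Q₁ (u z)) := hQ₁ _
    exact mem_smul_top_of_free (stkR p q₁ (u z)) (surjective_stk q₁ _) (stkR p j (u z)) (injective_stk j _)
      (exact_stk_kernel q₁ _) _ h1
  haveI : Epi γ := Coherent.CohBC.epi_of_surjective_stalks _ fun z k => by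
    obtain ⟨e, he⟩ := unitSt_surjective u z E (stk (kernel.ι a₀) z k)
    have h1 : InMax p M (u z) (stk φ₁ (u z) (stk q₁ (u z) e)) := by
      refine (unitSt_eq_zero_iff_inMax p hψ hkψ hu z M _).1 ?_
      rw [← stk_comp, h₁, ← unitSt_natural, he, ← stk_comp, kernel.condition, stk_zero]
    obtain ⟨g, hg, hge⟩ := (hmax z _ h1).exists_preimage p q₁
    obtain ⟨k', hk'⟩ := (exact_stk_kernel q₁ (u z) (e - g)).1 (by rw [map_sub, hge, sub_self])
    refine ⟨unitSt u z _ k', injective_stk (kernel.ι a₀) z ?_⟩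
    show stk (kernel.ι a₀) z (stk γ z (unitSt u z _ k')) = _
    rw [← stk_comp, kernel.lift_ι, unitSt_natural, hk', map_sub, (unitSt_eq_zero_iff_inMax p hψ hkψ hu z E g).2 hg,
      sub_zero, he]
  haveI : IsIso γ := isIso_of_mono_of_epi γ
  have hzero' : ∀ v : F.obj (kernel q₁) ⟶ F.obj M, v = 0 := fun v => by
    rw [← IsIso.hom_inv_id_assoc γ v, hzero (inv γ ≫ v), comp_zero]
  -- the kernel of `φ₂` receives `E` through multiplication by `t`
  let τ : E ⟶ kernel φ₂ := kernel.lift φ₂ (TwSh.scalarEnd E (Coh.toGlobal p t) ≫ q₂)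
    (by rw [Category.assoc, h₂, scalarEnd_comp p a hM])
  have hτ : ∀ x (e : St E x), stk (kernel.ι φ₂) x (stk τ x e) = stk q₂ x (rho p x t • e) := fun x e => by
    rw [← stk_comp, kernel.lift_ι, stk_comp, stk_scalarEnd p]
  haveI : Epi τ := Coherent.CohBC.epi_of_surjective_stalks _ fun x k => by
    obtain ⟨w, hw⟩ := hk₂ x (stk (kernel.ι φ₂) x k) (by rw [← stk_comp, kernel.condition, stk_zero])
    obtain ⟨e, rfl⟩ := surjective_stk q₂ x w
    exact ⟨e, injective_stk (kernel.ι φ₂) x ((hτ x e).trans (((stk q₂ x).map_smul _ _).trans hw.symm))⟩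
  let c := (Scheme.Modules.pullbackPushforwardAdjunction u).homEquiv _ _ a₀
  have hc : ∀ z (e : St E (u z)), stk c (u z) e = 0 ↔ InMax p M (u z) (stk a (u z) e) := fun z e => by
    rw [stk_eq_zero_iff_of_adjoint, unitSt_natural, unitSt_eq_zero_iff_inMax p hψ hkψ hu z M]
  have hcw : kernel.ι τ ≫ c = 0 := hom_eq_zero_of_stk _ fun x k => by
    obtain ⟨z, rfl⟩ := hsurj x
    rw [stk_comp, hc, ← h₂, stk_comp]
    refine InMax.map p φ₂ (hQ₂.inMax_of_smul_eq_zero p ht ?_)
    rw [← (stk q₂ (u z)).map_smul, ← hτ, ← stk_comp (kernel.ι τ), kernel.condition, stk_zero, map_zero]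
  let χ := Abelian.epiDesc τ c hcw
  let d : kernel q₁ ⟶ kernel φ₂ := kernel.lift φ₂ (j ≫ q₂) (by rw [Category.assoc, h₂, hja])
  have hd : d ≫ χ = 0 := by
    apply ((Scheme.Modules.pullbackPushforwardAdjunction u).homEquiv _ _).symm.injective
    exact (hzero' _).trans (hzero' _).symm
  refine hom_eq_zero_of_stk _ fun x k => ?_
  obtain ⟨z, rfl⟩ := hsurj x
  obtain ⟨e, he⟩ := surjective_stk τ (u z) (stk d (u z) k)
  have h1 : InMax p M (u z) (stk a (u z) e) := by
    refine (hc z e).1 ?_
    rw [← Abelian.comp_epiDesc τ c hcw, stk_comp, he, ← stk_comp, hd, stk_zero]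
  obtain ⟨g, hg, hge⟩ := h1.exists_preimage p a
  have h2 : stk φ₂ (u z) (stk q₂ (u z) (e - g)) = 0 := by rw [← stk_comp, h₂, map_sub, hge, sub_self]
  obtain ⟨w, hw⟩ := hk₂ _ _ h2
  rw [← kernel.lift_ι φ₂ (j ≫ q₂) (by rw [Category.assoc, h₂, hja]), stk_comp, ← he, hτ,
    (stk q₂ (u z)).map_smul, ← sub_add_cancel e g, map_add, smul_add, hw, smul_smul, ← map_mul, hmt t htm, map_zero,
    zero_smul, zero_add, ← (stk q₂ (u z)).map_smul, smul_inMax p hmt hg, map_zero]

end Groth.Agent.ArtFunLib.QuotLift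

end
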