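import Groth.Agent.ArtFunLib.QuotLift.Core
import Groth.Agent.ArtFunLib.Basic
import Groth.Agent.Quot8.QuotCalc
import Groth.Agent.Coherent.Existence.Restrict
import Groth.Prelude.Def_ArtFun6

/-!
# Lifting families of quotients along surjections of Artinian algebras
-/

set_option autoImplicit false
set_option backward.isDefEq.respectTransparency false
set_option backward.isDefEq.respectTransparency.types false
set_option linter.style.haveILetI false
set_option linter.unusedSectionVars false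

universe u

open CategoryTheory CategoryTheory.Limits AlgebraicGeometry Function IsLocalRing ArtFun

noncomputable section

namespace Groth.Agent.ArtFunLib.QuotLift

/-- Extensions of `K` by `Q` split. -/
def Splits {Z : Scheme.{u}} (Q K : Z.Modules) : Prop :=
  ∀ (W : Z.Modules) (β : Q ⟶ W) (α : W ⟶ K) (w : β ≫ α = 0),
    (ShortComplex.mk β α w).ShortExact → ∃ r, β ≫ r = 𝟙 _

theorem Splits.of_iso {Z : Scheme.{u}} {Q K Q' K' : Z.Modules} (h : Splits Q K) (eQ : Q ≅ Q') (eK : K ≅ K') :
    Splits Q' K' := by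
  intro W β α w hS
  have w' : (eQ.hom ≫ β) ≫ α ≫ eK.inv = 0 := by rw [Category.assoc, reassoc_of% w, zero_comp, comp_zero]
  have hS' : (ShortComplex.mk (eQ.hom ≫ β) (α ≫ eK.inv) w').ShortExact :=
    ShortComplex.shortExact_of_iso (ShortComplex.isoMk (S₁ := ShortComplex.mk β α w)
      (S₂ := ShortComplex.mk (eQ.hom ≫ β) (α ≫ eK.inv) w') eQ.symm (Iso.refl _) eK.symm (by simp) (by simp)) hS
  obtain ⟨r, hr⟩ := h W _ _ w' hS'
  exact ⟨r ≫ eQ.hom, by rw [← cancel_epi eQ.hom, ← Category.assoc, ← Category.assoc, hr, Category.id_comp,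
    Category.comp_id]⟩

/-- Every morphism from `K` to `Q` is zero. -/
def HomZero {Z : Scheme.{u}} (K Q : Z.Modules) : Prop := ∀ v : K ⟶ Q, v = 0

theorem HomZero.of_iso {Z : Scheme.{u}} {Q K Q' K' : Z.Modules} (h : HomZero K Q) (eK : K ≅ K') (eQ : Q ≅ Q') :
    HomZero K' Q' := fun v => by
  rw [← cancel_epi eK.hom, ← cancel_mono eQ.inv, h (((eK.hom ≫ v) ≫ eQ.inv)), comp_zero, zero_comp]

theorem kernelSubobject_eq_of_comp_eq {Z : Scheme.{u}} {M Q Q' : Z.Modules} {q : M ⟶ Q} {r : M ⟶ Q'} (i : Q ⟶ Q')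
    [IsIso i] (h : q ≫ i = r) : kernelSubobject q = kernelSubobject r := by
  subst h
  exact (Quot8.kernelSubobject_comp_iso q (asIso i)).symm

theorem kernelSubobject_comp_isIso {Z : Scheme.{u}} {M Q Q' : Z.Modules} (q : M ⟶ Q) (i : Q ⟶ Q') [IsIso i] :
    kernelSubobject (q ≫ i) = kernelSubobject q :=
  Quot8.kernelSubobject_comp_iso q (asIso i)

/-- The adjoint of an epimorphism to a closed immersion with all points is an epimorphism. -/
theorem epi_adjoint {Z Y : Scheme.{u}} (σ : Z ⟶ Y) [IsClosedImmersion σ] (hσ : Function.Surjective σ)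
    {F : Y.Modules} {N : Z.Modules} (φ : (Scheme.Modules.pullback σ).obj F ⟶ N) [Epi φ] :
    Epi ((Scheme.Modules.pullbackPushforwardAdjunction σ).homEquiv _ _ φ) := by
  let ad := Scheme.Modules.pullbackPushforwardAdjunction σ
  haveI := DCat.ClosedPush.isIso_counit σ N
  refine Coherent.CohBC.epi_of_surjective_stalks _ fun w m => ?_
  obtain ⟨z, rfl⟩ := hσ w
  let m' : St ((Scheme.Modules.pushforward σ).obj N) (σ z) := m
  obtain ⟨v, hv⟩ := surjective_stk φ z (stk (ad.counit.app N) z (unitSt σ z _ m'))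
  obtain ⟨e, rfl⟩ := unitSt_surjective σ z _ v
  refine ⟨e, ?_⟩
  show stk (ad.homEquiv _ _ φ) (σ z) e = m'
  rw [← sub_eq_zero]
  have he : φ = (Scheme.Modules.pullback σ).map (ad.homEquiv _ _ φ) ≫ ad.counit.app N :=
    ((ad.homEquiv _ _).symm_apply_apply φ).symm.trans (ad.homEquiv_counit _ _ _)
  generalize ad.homEquiv _ _ φ = ψ at he ⊢
  subst he
  rw [stk_comp, unitSt_natural] at hv
  have h0 : unitSt σ z _ (stk ψ (σ z) e - m') = 0 := by
    rw [map_sub, sub_eq_zero]
    exact injective_stk (ad.counit.app N) z hv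
  rw [unitSt_eq_zero_iff] at h0
  exact Submodule.smul_induction_on h0 (fun r hr s _ => DCat.ClosedPush.smul_stalk_push σ N z r hr s)
    fun a b ha hb => by rw [ha, hb, add_zero]

variable {k : Type u} [Field k] {X : Scheme.{u}} (x : X ⟶ Spec (CommRingCat.of k)) (E : X.Modules)

/-- The test object of an Artinian algebra. -/
abbrev TA (A : Art k k) : Over (Spec (CommRingCat.of k)) := Over.mk (Art.specOver A)

/-- The morphism of test objects. -/
abbrev gA {B A : Art k k} (p : B ⟶ A) : TA A ⟶ TA B := Over.homMk (Art.specMap p) (Art.specOver_comp p)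

theorem toBase_comp {B A : Art k k} (p : B ⟶ A) : p ≫ Art.toBase A = Art.toBase B :=
  Art.hom_ext p.res_comp

theorem gA_comp {C B A : Art k k} (p : C ⟶ B) (q : B ⟶ A) : gA (p ≫ q) = gA q ≫ gA p :=
  Over.OverMorphism.ext (Art.specMap_comp p q)

theorem gA_id (A : Art k k) : gA (𝟙 A) = 𝟙 (TA A) := Over.OverMorphism.ext (Art.specMap_id A)

instance isLocallyNoetherian_TA (A : Art k k) : IsLocallyNoetherian (TA A).left :=
  inferInstanceAs (IsLocallyNoetherian (Spec (CommRingCat.of A)))

/-- The closed fibre of a family of quotients. -/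
def fibreK {A : Art k k} (K : Subobject (FGA.ET x E (TA A))) : Subobject (FGA.ET x E (TA (Art.base k k))) :=
  FGA.quotPull x E (gA (Art.toBase A)) K

theorem fibreK_pull {B A : Art k k} (p : B ⟶ A) (K : Subobject (FGA.ET x E (TA B))) :
    fibreK x E (FGA.quotPull x E (gA p) K) = fibreK x E K := by
  unfold fibreK
  rw [← Quot8.quotPull_comp, ← gA_comp, toBase_comp]

section Square

theorem isPullback_XT {B A : Art k k} (p : B ⟶ A) :
    IsPullback (PicF.XTmap x (gA p)) (PicF.XTproj x (TA A)) (PicF.XTproj x (TA B))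
      (Spec.map (CommRingCat.ofHom p.toAlgHom.toRingHom)) :=
  FlatMor12.FlatFun.isPullback_XTmap x (gA p)

theorem surjective_toBase (A : Art k k) : Function.Surjective (Art.toBase A).toAlgHom.toRingHom :=
  A.res_surjective

theorem ker_toBase (A : Art k k) : RingHom.ker (Art.toBase A).toAlgHom.toRingHom = maximalIdeal A := by
  ext a
  rw [Art.mem_maximalIdeal_iff]
  rfl

theorem isClosedImmersion_XTmap {B A : Art k k} (p : B ⟶ A) (hp : Function.Surjective p) :
    IsClosedImmersion (PicF.XTmap x (gA p)) :=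
  haveI : IsClosedImmersion (Spec.map (CommRingCat.ofHom p.toAlgHom.toRingHom)) :=
    IsClosedImmersion.spec_of_surjective _ hp
  MorphismProperty.of_isPullback (P := @IsClosedImmersion) (isPullback_XT x p).flip inferInstance

theorem surjective_XTmap {B A : Art k k} (p : B ⟶ A) : Function.Surjective (PicF.XTmap x (gA p)) := by
  intro w
  let i := Spec.map (CommRingCat.ofHom p.toAlgHom.toRingHom)
  let e := (isPullback_XT x p).isoPullback
  haveI : Subsingleton ↥(TA B).left := inferInstanceAs (Subsingleton (PrimeSpectrum B))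
  obtain ⟨v, hv⟩ : w ∈ Set.range (pullback.fst (PicF.XTproj x (TA B)) i) := by
    rw [Scheme.Pullback.range_fst]
    obtain ⟨y⟩ : Nonempty (Spec (CommRingCat.of A)) := inferInstanceAs (Nonempty (PrimeSpectrum A))
    exact ⟨y, Subsingleton.elim _ _⟩
  refine ⟨e.inv v, ?_⟩
  rw [← Scheme.Hom.comp_apply, IsPullback.isoPullback_inv_fst]
  exact hv

/-- Everything is flat over a field, hence after base change over `Spec B`. -/
theorem stFree_ET (A : Art k k) : StFree (PicF.XTproj x (TA A)) (FGA.ET x E (TA A)) := by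
  intro w
  have h0 : FlatMod.IsFlatOverAt x E (pullback.fst x (TA A).hom w) := by
    refine (isFlatOverAt_iff_flat x E _).2 ?_
    letI := baseMod x E (pullback.fst x (TA A).hom w)
    infer_instance
  have h1 := Desc19b.isFlatOverAt_baseChange x (PicF.XTproj x (TA A)) (pullback.fst x (TA A).hom) (TA A).hom
    (IsPullback.of_hasPullback x (TA A).hom) E w h0
  letI := baseMod (PicF.XTproj x (TA A)) (FGA.ET x E (TA A)) w
  haveI : Module.Flat A (St (FGA.ET x E (TA A)) w) := (isFlatOverAt_iff_flat (R := A) _ _ w).1 h1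
  exact CAlgH3.free_of_flat_artinian (A := A) _

theorem stFree_of_flat {A : Art k k} {Q : (PicF.XT x (TA A)).Modules}
    (h : FlatMod.IsFlatOver (PicF.XTproj x (TA A)) Q) : StFree (PicF.XTproj x (TA A)) Q := by
  intro w
  letI := baseMod (PicF.XTproj x (TA A)) Q w
  haveI : Module.Flat A (St Q w) := (isFlatOverAt_iff_flat (R := A) _ _ w).1 (h w)
  exact CAlgH3.free_of_flat_artinian (A := A) _

theorem flat_of_stFree {A : Art k k} {Q : (PicF.XT x (TA A)).Modules}
    (h : StFree (PicF.XTproj x (TA A)) Q) : FlatMod.IsFlatOver (PicF.XTproj x (TA A)) Q := by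
  intro w
  refine (isFlatOverAt_iff_flat (R := A) _ _ w).2 ?_
  letI := baseMod (PicF.XTproj x (TA A)) Q w
  haveI : Module.Free A (St Q w) := h w
  infer_instance

end Square

theorem exists_smul_of_mem_span {R : Type u} [CommRing R] {M : Type u} [AddCommGroup M] [Module R M] {t : R} {y : M}
    (h : y ∈ (Ideal.span {t} • ⊤ : Submodule R M)) : ∃ w, y = t • w := by
  rw [Submodule.ideal_span_singleton_smul, Submodule.mem_smul_pointwise_iff_exists] at h
  obtain ⟨w, -, rfl⟩ := h
  exact ⟨w, rfl⟩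

section Small

variable {B A : Art k k} (p : B ⟶ A) (hp : Function.Surjective p) (K : Subobject (FGA.ET x E (TA A)))

/-- The direct image of the quotient on the total space over `B`. -/
abbrev pushQ : (PicF.XT x (TA B)).Modules :=
  (Scheme.Modules.pushforward (PicF.XTmap x (gA p))).obj (cokernel K.arrow)

/-- The quotient of `E_B`. -/
def quotA : FGA.ET x E (TA B) ⟶ pushQ x E p K :=
  (Scheme.Modules.pullbackPushforwardAdjunction (PicF.XTmap x (gA p))).homEquiv _ _
    ((FGA.ETiso x E (gA p)).hom ≫ cokernel.π K.arrow)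

include hp in
theorem epi_quotA : Epi (quotA x E p K) :=
  haveI := isClosedImmersion_XTmap x p hp
  epi_adjoint (PicF.XTmap x (gA p)) (surjective_XTmap x p) ((FGA.ETiso x E (gA p)).hom ≫ cokernel.π K.arrow)

theorem map_quotA_counit :
    (Scheme.Modules.pullback (PicF.XTmap x (gA p))).map (quotA x E p K) ≫
      (Scheme.Modules.pullbackPushforwardAdjunction (PicF.XTmap x (gA p))).counit.app _ =
      (FGA.ETiso x E (gA p)).hom ≫ cokernel.π K.arrow :=
  ((Scheme.Modules.pullbackPushforwardAdjunction _).homEquiv_counit _ _ _).symm.trans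
    (((Scheme.Modules.pullbackPushforwardAdjunction _).homEquiv _ _).symm_apply_apply _)

include hp in
theorem quotPull_kernel_quotA : FGA.quotPull x E (gA p) (kernelSubobject (quotA x E p K)) = K := by
  haveI := isClosedImmersion_XTmap x p hp
  haveI := epi_quotA x E p hp K
  haveI := DCat.ClosedPush.isIso_counit (PicF.XTmap x (gA p)) (cokernel K.arrow)
  refine (Quot8.quotPull_kernelSubobject x E (gA p) _).trans
    ((kernelSubobject_eq_of_comp_eq ((Scheme.Modules.pullbackPushforwardAdjunction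
      (PicF.XTmap x (gA p))).counit.app (cokernel K.arrow)) ?_).trans (Quot8.kernelSubobject_cokernel K))
  rw [Quot8.bcQ_eq, Category.assoc, map_quotA_counit, Iso.inv_hom_id_assoc]

include hp in
/-- The closed fibre in terms of the quotient of `E_B`. -/
theorem exists_fibre_iso :
    Nonempty (((fibreK x E K : Subobject _) : (PicF.XT x (TA (Art.base k k))).Modules) ≅
        kernel ((Scheme.Modules.pullback (PicF.XTmap x (gA (Art.toBase B)))).map (quotA x E p K))) ∧
      Nonempty (cokernel (fibreK x E K).arrow ≅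
        (Scheme.Modules.pullback (PicF.XTmap x (gA (Art.toBase B)))).obj (pushQ x E p K)) := by
  haveI := epi_quotA x E p hp K
  have h : fibreK x E K = kernelSubobject (Quot8.bcQ x E (gA (Art.toBase B)) (quotA x E p K)) := by
    rw [← Quot8.quotPull_kernelSubobject]
    conv_lhs => rw [← quotPull_kernel_quotA x E p hp K]
    exact fibreK_pull x E p _
  obtain ⟨i, -⟩ := Quot8.exists_cokernel_kernelSubobject_iso (Quot8.bcQ x E (gA (Art.toBase B)) (quotA x E p K))
  rw [h]
  refine ⟨⟨kernelSubobjectIso _ ≪≫ ?_⟩, ⟨i⟩⟩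
  exact kernel.mapIso _ _ (FGA.ETiso x E (gA (Art.toBase B))).symm (Iso.refl _)
    (by simp [Quot8.bcQ_eq])

variable [LocallyOfFiniteType x]

theorem isCoh_ET (hE : Coh.IsCoh E) (C : Art k k) : Coh.IsCoh (FGA.ET x E (TA C)) := by
  haveI : IsLocallyNoetherian (PicF.XT x (TA C)) := Quot8.isLocallyNoetherian_XT x
  haveI : IsLocallyNoetherian X := LocallyOfFiniteType.isLocallyNoetherian x
  exact ZClosLib.isCoh_pullback _ _ hE

include hp in
theorem stFreeMod_pushQ {t : B} (ht : RingHom.ker p.toAlgHom.toRingHom = Ideal.span {t})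
    (hflat : FlatMod.IsFlatOver (PicF.XTproj x (TA A)) (cokernel K.arrow)) :
    StFreeMod (PicF.XTproj x (TA B)) t (pushQ x E p K) := fun w => by
  haveI := isClosedImmersion_XTmap x p hp
  obtain ⟨z, rfl⟩ := surjective_XTmap x p w
  rw [← ht]
  exact freeMod_push (PicF.XTproj x (TA B)) (R' := A) hp (isPullback_XT x p) _ hflat z

include hp in
/-- A family extends along a small extension. -/
theorem exists_extension_small (hE : Coh.IsCoh E) {t : B} (ht0 : t ≠ 0) (htm : t ∈ maximalIdeal B)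
    (hmt : ∀ a ∈ maximalIdeal B, a * t = 0) (ht : RingHom.ker p.toAlgHom.toRingHom = Ideal.span {t})
    (hK : Coh.IsCoh (cokernel K.arrow) ∧ FlatMod.IsFlatOver (PicF.XTproj x (TA A)) (cokernel K.arrow))
    (hsplit : Splits (cokernel (fibreK x E K).arrow) (fibreK x E K)) :
    ∃ K' : FGA.QuotSet x E (TA B), FGA.quotPull x E (gA p) K'.1 = K := by
  let π := PicF.XTproj x (TA B)
  let σ := PicF.XTmap x (gA p)
  let u := PicF.XTmap x (gA (Art.toBase B))
  let a := quotA x E p K
  haveI hσc : IsClosedImmersion σ := isClosedImmersion_XTmap x p hp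
  haveI huc : IsClosedImmersion u := isClosedImmersion_XTmap x _ (surjective_toBase B)
  haveI : Epi a := epi_quotA x E p hp K
  obtain ⟨⟨eK⟩, ⟨eQ⟩⟩ := exists_fibre_iso x E p hp K
  have hM := stFreeMod_pushQ x E p hp K ht hK.2
  obtain ⟨s, φ, hφ, hfree, hker⟩ := exists_extension (R := B) π (surjective_toBase B) (ker_toBase B)
    (isPullback_XT x (Art.toBase B)) (surjective_XTmap x _) ht0 htm hmt (stFree_ET x E B) a hM
    (hsplit.of_iso eQ eK)
  haveI : IsLocallyNoetherian (PicF.XT x (TA B)) := Quot8.isLocallyNoetherian_XT x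
  haveI : IsLocallyNoetherian (PicF.XT x (TA (Art.base k k))) := Quot8.isLocallyNoetherian_XT x
  haveI : IsLocallyNoetherian (PicF.XT x (TA A)) := Quot8.isLocallyNoetherian_XT x
  have hEB := isCoh_ET x E hE B
  have hMc : Coh.IsCoh (pushQ x E p K) := Coherent.Existence.isCoh_push_of_isProper σ hK.1
  have hPc : Coh.IsCoh (kernel a) := Coherent.isCoh_kernel a hEB hMc.1
  have hK'c : Coh.IsCoh (kernel s) :=
    Coherent.isCoh_kernel s hPc (Coherent.Existence.isCoh_push_of_isProper u (ZClosLib.isCoh_pullback u _ hMc)).1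
  let q := cokernel.π (kernel.ι s ≫ kernel.ι a)
  refine ⟨Quot8.mkQuot x E q (Coherent.isCoh_cokernel _ hK'c.1 hEB) (flat_of_stFree x hfree), ?_⟩
  rw [Quot8.mkQuot_val, Quot8.quotPull_kernelSubobject]
  let ad := Scheme.Modules.pullbackPushforwardAdjunction σ
  haveI := DCat.ClosedPush.isIso_counit σ (cokernel K.arrow)
  let i := (Scheme.Modules.pullback σ).map φ ≫ ad.counit.app _
  have hi : Quot8.bcQ x E (gA p) q ≫ i = cokernel.π K.arrow := by
    rw [Quot8.bcQ_eq, Category.assoc, ← Functor.map_comp_assoc, hφ, map_quotA_counit, Iso.inv_hom_id_assoc]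
  haveI : Epi i := epi_of_epi_fac hi
  haveI : Mono i := Coherent.CohBC.mono_of_injective_stalks _ fun z => by
    refine (injective_iff_map_eq_zero (stk i z)).2 fun v hv => ?_
    obtain ⟨y, rfl⟩ := unitSt_surjective σ z _ v
    rw [stk_comp, unitSt_natural] at hv
    replace hv := (unitSt_eq_zero_iff σ z _ _).1 (injective_stk (ad.counit.app _) z (hv.trans (map_zero _).symm))
    have h0 : stk φ (σ z) y = 0 := Submodule.smul_induction_on hv
      (fun r hr s _ => DCat.ClosedPush.smul_stalk_push σ _ z r hr s) fun a b ha hb => by rw [ha, hb, add_zero]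
    obtain ⟨w, rfl⟩ := hker _ _ h0
    rw [unitSt_eq_zero_iff_base π hp (isPullback_XT x p), ht]
    letI := baseMod π (cokernel (kernel.ι s ≫ kernel.ι a)) (σ z)
    exact Submodule.smul_mem_smul (r := t) (Ideal.mem_span_singleton_self t) (Submodule.mem_top (x := w))
  haveI : IsIso i := isIso_of_mono_of_epi i
  exact (kernelSubobject_eq_of_comp_eq i hi).trans (Quot8.kernelSubobject_cokernel K)

include hp in
/-- What an extension gives. -/
theorem exists_phi {t : B} (ht : RingHom.ker p.toAlgHom.toRingHom = Ideal.span {t}) (K' : FGA.QuotSet x E (TA B))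
    (h : FGA.quotPull x E (gA p) K'.1 = K) :
    ∃ φ : cokernel K'.1.arrow ⟶ pushQ x E p K, cokernel.π K'.1.arrow ≫ φ = quotA x E p K ∧
      ∀ w y, stk φ w y = 0 → ∃ v, y = rho (PicF.XTproj x (TA B)) w t • v := by
  let σ := PicF.XTmap x (gA p)
  haveI hσc : IsClosedImmersion σ := isClosedImmersion_XTmap x p hp
  let q := cokernel.π K'.1.arrow
  rw [← Quot8.kernelSubobject_cokernel K'.1, Quot8.quotPull_kernelSubobject,
    ← Quot8.kernelSubobject_cokernel K] at h
  obtain ⟨i, hi⟩ := Quot8.exists_iso_of_kernelSubobject_eq _ _ h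
  let ad := Scheme.Modules.pullbackPushforwardAdjunction σ
  refine ⟨ad.homEquiv _ _ i.hom, ?_, fun w y hy => ?_⟩
  · refine (ad.homEquiv_naturality_left q i.hom).symm.trans (congrArg (ad.homEquiv _ _) ?_)
    rw [← hi, Quot8.bcQ_eq, Category.assoc, Iso.hom_inv_id_assoc]
  · obtain ⟨z, rfl⟩ := surjective_XTmap x p w
    have h1 := (stk_eq_zero_iff_of_adjoint σ z i.hom y).1 hy
    have h2 := (unitSt_eq_zero_iff_base (PicF.XTproj x (TA B)) hp (isPullback_XT x p) z _ y).1
      (injective_stk i.hom z (h1.trans (map_zero _).symm))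
    rw [ht] at h2
    letI := baseMod (PicF.XTproj x (TA B)) (cokernel K'.1.arrow) (σ z)
    exact exists_smul_of_mem_span (R := B) (t := t) h2

include hp in
/-- The extension along a small extension is unique. -/
theorem extension_unique_small {t : B} (ht0 : t ≠ 0) (htm : t ∈ maximalIdeal B)
    (hmt : ∀ a ∈ maximalIdeal B, a * t = 0) (ht : RingHom.ker p.toAlgHom.toRingHom = Ideal.span {t})
    (hflat : FlatMod.IsFlatOver (PicF.XTproj x (TA A)) (cokernel K.arrow))
    (hzero : HomZero (fibreK x E K : (PicF.XT x (TA (Art.base k k))).Modules) (cokernel (fibreK x E K).arrow))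
    (K' K'' : FGA.QuotSet x E (TA B)) (h' : FGA.quotPull x E (gA p) K'.1 = K)
    (h'' : FGA.quotPull x E (gA p) K''.1 = K) : K'.1 = K''.1 := by
  suffices key : ∀ K' K'' : FGA.QuotSet x E (TA B), FGA.quotPull x E (gA p) K'.1 = K →
      FGA.quotPull x E (gA p) K''.1 = K → K'.1 ≤ K''.1 from le_antisymm (key K' K'' h' h'') (key K'' K' h'' h')
  intro K' K'' h' h''
  let u := PicF.XTmap x (gA (Art.toBase B))
  haveI huc : IsClosedImmersion u := isClosedImmersion_XTmap x _ (surjective_toBase B)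
  haveI : Epi (quotA x E p K) := epi_quotA x E p hp K
  obtain ⟨⟨eK⟩, ⟨eQ⟩⟩ := exists_fibre_iso x E p hp K
  obtain ⟨φ₁, hφ₁, hk₁⟩ := exists_phi x E p hp K ht K' h'
  obtain ⟨φ₂, hφ₂, hk₂⟩ := exists_phi x E p hp K ht K'' h''
  have h0 := extension_le (R := B) (PicF.XTproj x (TA B)) (surjective_toBase B) (ker_toBase B)
    (isPullback_XT x (Art.toBase B)) (surjective_XTmap x _) ht0 htm hmt (quotA x E p K)
    (stFreeMod_pushQ x E p hp K ht hflat) (hzero.of_iso eK eQ) (cokernel.π K'.1.arrow) φ₁ hφ₁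
    (stFree_of_flat x K'.2.2) hk₁ (cokernel.π K''.1.arrow) φ₂ hφ₂ (stFree_of_flat x K''.2.2) hk₂
  rw [← Quot8.kernelSubobject_cokernel K'.1, ← Quot8.kernelSubobject_cokernel K''.1]
  refine le_kernelSubobject _ _ ?_
  rw [← kernelSubobject_arrow, Category.assoc, h0, comp_zero]

end Small

theorem smallExt_generator {B A : Art k k} {p : B ⟶ A} (hp : Art.IsSmallExt p) :
    ∃ t : B, t ≠ 0 ∧ t ∈ maximalIdeal B ∧ (∀ a ∈ maximalIdeal B, a * t = 0) ∧
      RingHom.ker p.toAlgHom.toRingHom = Ideal.span {t} := by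
  obtain ⟨hsurj, hne, hpr, hmul⟩ := hp
  obtain ⟨t, ht⟩ := hpr.principal
  have hker : RingHom.ker p.toAlgHom.toRingHom = Ideal.span {t} := ht
  have htk : t ∈ RingHom.ker p.toAlgHom.toRingHom := hker ▸ Ideal.mem_span_singleton_self t
  refine ⟨t, fun h => hne ?_, ker_le_max p htk, fun a ha => ?_, hker⟩
  · rw [h, Ideal.span_singleton_eq_bot.2 rfl] at hker
    exact hker
  · have := Ideal.mul_mem_mul ha htk
    erw [hmul] at this
    exact this

theorem quotPull_gA_inv {B A : Art k k} (e : B ⟶ A) [IsIso e] (K : Subobject (FGA.ET x E (TA B))) :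
    FGA.quotPull x E (gA (inv e)) (FGA.quotPull x E (gA e) K) = K := by
  rw [← Quot8.quotPull_comp, ← gA_comp, IsIso.hom_inv_id, gA_id, Quot8.quotPull_id]

variable [LocallyOfFiniteType x]

theorem exists_quotSet_pull {B A : Art k k} (p : B ⟶ A) (K : FGA.QuotSet x E (TA B)) :
    ∃ K' : FGA.QuotSet x E (TA A), K'.1 = FGA.quotPull x E (gA p) K.1 := by
  haveI := Quot8.isLocallyNoetherian_XT x (T := TA B)
  haveI := Quot8.isLocallyNoetherian_XT x (T := TA A)
  haveI := Quot8.epi_bcQ x E (gA p) (cokernel.π K.1.arrow)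
  refine ⟨Quot8.mkQuot x E (Quot8.bcQ x E (gA p) (cokernel.π K.1.arrow)) (ZClosLib.isCoh_pullback _ _ K.2.1)
    (fun z => Desc19b.isFlatOverAt_baseChange _ _ _ _ (FlatMor12.FlatFun.isPullback_XTmap x (gA p)) _ z (K.2.2 _)), ?_⟩
  conv_rhs => rw [← Quot8.kernelSubobject_cokernel K.1, Quot8.quotPull_kernelSubobject]
  rfl

/-- Families extend along surjections. -/
theorem exists_extension_surjective (hE : Coh.IsCoh E) {B A : Art k k} (p : B ⟶ A) (hp : Function.Surjective p)
    (K : FGA.QuotSet x E (TA A)) (hsplit : Splits (cokernel (fibreK x E K.1).arrow) (fibreK x E K.1)) :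
    ∃ K' : FGA.QuotSet x E (TA B), FGA.quotPull x E (gA p) K'.1 = K.1 := by
  revert K
  refine surj_induction (fun A B (p : B ⟶ A) => ∀ K : FGA.QuotSet x E (TA A),
    Splits (cokernel (fibreK x E K.1).arrow) (fibreK x E K.1) →
      ∃ K' : FGA.QuotSet x E (TA B), FGA.quotPull x E (gA p) K'.1 = K.1) ?_ ?_ ?_ p hp
  · intro _ _ e he K _
    obtain ⟨K', hK'⟩ : ∃ K' : FGA.QuotSet x E (TA _), K'.1 = FGA.quotPull x E (gA (inv e)) K.1 :=
      exists_quotSet_pull x E (inv e) K
    exact ⟨K', by rw [hK', ← Quot8.quotPull_comp, ← gA_comp, IsIso.inv_hom_id, gA_id, Quot8.quotPull_id]⟩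
  · intro _ _ q hq K hK
    obtain ⟨t, ht0, htm, hmt, ht⟩ := smallExt_generator hq
    exact exists_extension_small x E q hq.1 K.1 hE ht0 htm hmt ht K.2 hK
  · intro _ _ _ q r hq hr ihq ihr K hK
    obtain ⟨K₁, hK₁⟩ := ihr K hK
    rw [← hK₁, fibreK_pull] at hK
    obtain ⟨K', hK'⟩ := ihq K₁ hK
    exact ⟨K', by rw [gA_comp, Quot8.quotPull_comp, hK', hK₁]⟩

omit [LocallyOfFiniteType x] in
/-- Extensions along surjections are unique. -/
theorem extension_unique_surjective [LocallyOfFiniteType x] {B A : Art k k} (p : B ⟶ A) (hp : Function.Surjective p)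
    (K' K'' : FGA.QuotSet x E (TA B)) (h : FGA.quotPull x E (gA p) K'.1 = FGA.quotPull x E (gA p) K''.1)
    (hzero : HomZero (fibreK x E K'.1 : (PicF.XT x (TA (Art.base k k))).Modules) (cokernel (fibreK x E K'.1).arrow)) :
    K'.1 = K''.1 := by
  revert K' K''
  refine surj_induction (fun A B (p : B ⟶ A) => ∀ K' K'' : FGA.QuotSet x E (TA B),
    FGA.quotPull x E (gA p) K'.1 = FGA.quotPull x E (gA p) K''.1 →
      HomZero (fibreK x E K'.1 : (PicF.XT x (TA (Art.base k k))).Modules) (cokernel (fibreK x E K'.1).arrow) →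
        K'.1 = K''.1) ?_ ?_ ?_ p hp
  · intro _ _ e he K' K'' h _
    rw [← quotPull_gA_inv x E e K'.1, h, quotPull_gA_inv x E e K''.1]
  · intro _ _ q hq K' K'' h hz
    obtain ⟨t, ht0, htm, hmt, ht⟩ := smallExt_generator hq
    obtain ⟨K₁, hK₁⟩ := exists_quotSet_pull x E q K'
    rw [← fibreK_pull x E q K'.1, ← hK₁] at hz
    exact extension_unique_small x E q hq.1 K₁.1 ht0 htm hmt ht K₁.2.2 hz K' K'' hK₁.symm (by rw [← h, hK₁])
  · intro _ _ _ q r hq hr ihq ihr K' K'' h hz
    obtain ⟨L', hL'⟩ := exists_quotSet_pull x E q K'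
    obtain ⟨L'', hL''⟩ := exists_quotSet_pull x E q K''
    rw [gA_comp, Quot8.quotPull_comp, Quot8.quotPull_comp, ← hL', ← hL''] at h
    have hz' := hz
    rw [← fibreK_pull x E q K'.1, ← hL'] at hz'
    exact ihq K' K'' (by rw [← hL', ← hL'', ihr L' L'' h hz']) hz

open Abelian in
/-- Vanishing of the first extension group makes extensions split. -/
theorem splits_of_subsingleton_ext {Z : Scheme.{u}} [HasExt.{u} Z.Modules] {Q K : Z.Modules}
    (h : Subsingleton (Ext.{u} K Q 1)) : Splits Q K := by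
  intro W β α w hS
  obtain ⟨y, hy⟩ := Ext.contravariant_sequence_exact₁ hS Q (Ext.mk₀ (𝟙 Q)) (show 1 + 0 = 1 from rfl)
    (Subsingleton.elim _ _)
  obtain ⟨r, rfl⟩ := (Ext.mk₀_bijective W Q).2 y
  refine ⟨r, (Ext.mk₀_bijective Q Q).1 ?_⟩
  rw [← hy]
  exact (Ext.mk₀_comp_mk₀ β r).symm

end Groth.Agent.ArtFunLib.QuotLift

end
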