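import Groth.Agent.ArtFunLib.QuotLift.Family
import Groth.Agent.Quot8.HilbIdeal

/-!
# Embedded deformations as families of quotients of the structure sheaf
-/

set_option autoImplicit false
set_option backward.isDefEq.respectTransparency false
set_option backward.isDefEq.respectTransparency.types false
set_option linter.style.haveILetI false
set_option linter.unusedSectionVars false

universe u

open CategoryTheory CategoryTheory.Limits AlgebraicGeometry Function IsLocalRing ArtFun

noncomputable section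

namespace Groth.Agent.ArtFunLib.QuotLift

/-- Inverse image along an isomorphism is an equivalence. -/
def pullbackIsoEquiv {Y Z : Scheme.{u}} (e : Z ⟶ Y) [IsIso e] : Y.Modules ≌ Z.Modules :=
  CategoryTheory.Equivalence.mk (Scheme.Modules.pullback e) (Scheme.Modules.pullback (inv e))
    ((Scheme.Modules.pullbackId Y).symm ≪≫ Scheme.Modules.pullbackCongr (IsIso.inv_hom_id e).symm ≪≫
      (Scheme.Modules.pullbackComp (inv e) e).symm)
    (Scheme.Modules.pullbackComp e (inv e) ≪≫ Scheme.Modules.pullbackCongr (IsIso.hom_inv_id e) ≪≫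
      Scheme.Modules.pullbackId Z)

instance isEquivalence_pullback {Y Z : Scheme.{u}} (e : Z ⟶ Y) [IsIso e] :
    (Scheme.Modules.pullback e).IsEquivalence :=
  (pullbackIsoEquiv e).isEquivalence_functor

theorem Splits.pullback_iso {Y Z : Scheme.{u}} (e : Z ⟶ Y) [IsIso e] {Q K : Y.Modules} (h : Splits Q K) :
    Splits ((Scheme.Modules.pullback e).obj Q) ((Scheme.Modules.pullback e).obj K) := by
  let G := (Scheme.Modules.pullback e).asEquivalence.inverse
  haveI : G.Additive := Functor.additive_of_preserves_binary_products G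
  intro W β α w hS
  let u₁ : Q ≅ G.obj ((Scheme.Modules.pullback e).obj Q) := (Scheme.Modules.pullback e).asEquivalence.unitIso.app Q
  let u₂ : K ≅ G.obj ((Scheme.Modules.pullback e).obj K) := (Scheme.Modules.pullback e).asEquivalence.unitIso.app K
  have w' : (u₁.hom ≫ G.map β) ≫ G.map α ≫ u₂.inv = 0 := by
    rw [Category.assoc, ← G.map_comp_assoc, w, G.map_zero, zero_comp, comp_zero]
  have hS' : (ShortComplex.mk (u₁.hom ≫ G.map β) (G.map α ≫ u₂.inv) w').ShortExact :=
    ShortComplex.shortExact_of_iso (ShortComplex.isoMk (S₁ := (ShortComplex.mk β α w).map G)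
      (S₂ := ShortComplex.mk (u₁.hom ≫ G.map β) (G.map α ≫ u₂.inv) w') u₁.symm (Iso.refl _) u₂.symm
      (by simp [u₁]) (by simp)) (hS.map_of_exact G)
  obtain ⟨r, hr⟩ := h _ _ _ w' hS'
  refine ⟨G.preimage (r ≫ u₁.hom), G.map_injective ?_⟩
  rw [G.map_comp, G.map_preimage, G.map_id, ← cancel_epi u₁.hom, ← Category.assoc, ← Category.assoc, hr,
    Category.id_comp]
  exact (Category.comp_id _).symm

theorem HomZero.pullback_iso {Y Z : Scheme.{u}} (e : Z ⟶ Y) [IsIso e] {Q K : Y.Modules} (h : HomZero K Q) :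
    HomZero ((Scheme.Modules.pullback e).obj K) ((Scheme.Modules.pullback e).obj Q) := fun v => by
  rw [← (Scheme.Modules.pullback e).map_preimage v, h ((Scheme.Modules.pullback e).preimage v), Functor.map_zero]

variable {k : Type u} [Field k] (X : Scheme.{u}) (x : X ⟶ Spec (CommRingCat.of k)) [LocallyOfFiniteType x]

/-- The structure sheaf. -/
abbrev OX : X.Modules := Coh.structureModule X

theorem XAmap_eq {A B : Art k k} (g : A ⟶ B) : Art.XAmap x g = PicF.XTmap x (gA g) := by
  apply pullback.hom_ext <;> simp [Art.XAmap, PicF.XTmap, PicF.XT]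

instance isIso_fst_base : IsIso (pullback.fst x (TA (Art.base k k)).hom) := by
  haveI : IsIso (TA (Art.base k k)).hom := by
    show IsIso (Art.specMap (Art.ofBase (Art.base k k)))
    rw [show Art.ofBase (Art.base k k) = 𝟙 _ from Art.hom_ext (AlgHom.ext fun c => rfl), Art.specMap_id]
    infer_instance
  infer_instance

theorem fst_XAincl (A : Art k k) :
    pullback.fst x (TA (Art.base k k)).hom ≫ Art.XAincl x A = PicF.XTmap x (gA (Art.toBase A)) := by
  apply pullback.hom_ext
  · erw [Category.assoc, Art.XAincl_fst, Category.comp_id, FGA.XTmap_fst]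
  · erw [Category.assoc, Art.XAincl_snd]
    rw [← Category.assoc]
    erw [pullback.condition, pullback.lift_snd]
    rw [Category.assoc]
    refine congrArg (pullback.snd x (TA (Art.base k k)).hom ≫ ·) ?_
    show Art.specMap (Art.ofBase (Art.base k k)) ≫ Art.specRes A = Art.specMap (Art.toBase A)
    rw [show Art.ofBase (Art.base k k) = 𝟙 _ from Art.hom_ext (AlgHom.ext fun c => rfl), Art.specMap_id]
    exact Category.id_comp _

/-- The submodule attached to a closed subscheme of `X ×_k Spec A`. -/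
def KofI {A : Art k k} (I : (PicF.XT x (TA A)).IdealSheafData) : Subobject (FGA.ET x (OX X) (TA A)) :=
  Quot8.KI (Quot8.thetaT x (TA A)) I

theorem KofI_injective (A : Art k k) : Function.Injective (KofI X x (A := A)) := Quot8.KI_injective _

theorem quotPull_KofI {A B : Art k k} (g : A ⟶ B) (I : (PicF.XT x (TA A)).IdealSheafData) :
    FGA.quotPull x (OX X) (gA g) (KofI X x I) = KofI X x (I.comap (Art.XAmap x g)) := by
  unfold KofI
  rw [Quot8.quotPull_KI, FlatMor12.HilbBC.hilbPull_eq_comap, XAmap_eq]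

theorem exists_quotSet_KofI {A : Art k k} {I : (PicF.XT x (TA A)).IdealSheafData} (hI : FlatOver X x A I) :
    ∃ K : FGA.QuotSet x (OX X) (TA A), K.1 = KofI X x I := by
  haveI := Quot8.isLocallyNoetherian_XT x (T := TA A)
  exact ⟨Quot8.mkQuot x _ (Quot8.qI (Quot8.thetaT x (TA A)) I) (CurveRR24.isCoh_quotMod _)
    ((Quot8.isFlatOver_quotMod_iff x _).2 hI), rfl⟩

theorem exists_ideal_of_quotSet {A : Art k k} (K : FGA.QuotSet x (OX X) (TA A)) :
    ∃ I, FlatOver X x A I ∧ K.1 = KofI X x I := by
  haveI := Quot8.isLocallyNoetherian_XT x (T := TA A)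
  haveI := (Coherent.isCoh_structureModule (PicF.XT x (TA A))).1
  obtain ⟨I, hI⟩ := Quot8.exists_eq_KI (Quot8.thetaT x (TA A)) (cokernel.π K.1.arrow) K.2.1
  rw [Quot8.kernelSubobject_cokernel] at hI
  refine ⟨I, ?_, hI⟩
  have hfl := K.2.2
  rw [hI] at hfl
  obtain ⟨i, -⟩ := Quot8.exists_cokernel_KI_iso (Quot8.thetaT x (TA A)) I
  exact (Quot8.isFlatOver_quotMod_iff x I).1 fun z => EGA43.DvrCrit.isFlatOverAt_of_iso _ i z (hfl z)

theorem fibreK_KofI {A : Art k k} {I : (PicF.XT x (TA A)).IdealSheafData} {I₀ : X.IdealSheafData}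
    (h : I.comap (Art.XAincl x A) = I₀) :
    fibreK x (OX X) (KofI X x I) = KofI X x (I₀.comap (pullback.fst x (TA (Art.base k k)).hom)) := by
  unfold fibreK
  rw [quotPull_KofI, XAmap_eq, ← fst_XAincl, ← h, Scheme.IdealSheafData.comap_comp]

/-- The quotient on the closed fibre is the inverse image of the quotient on `X`. -/
theorem exists_fibre_iso_ideal (I₀ : X.IdealSheafData) :
    Nonempty ((Scheme.Modules.pullback (pullback.fst x (TA (Art.base k k)).hom)).obj (ClSub.idealMod I₀) ≅
        (KofI X x (I₀.comap (pullback.fst x (TA (Art.base k k)).hom)) : (PicF.XT x (TA (Art.base k k))).Modules)) ∧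
      Nonempty ((Scheme.Modules.pullback (pullback.fst x (TA (Art.base k k)).hom)).obj (ClSub.quotMod I₀) ≅
        cokernel (KofI X x (I₀.comap (pullback.fst x (TA (Art.base k k)).hom))).arrow) := by
  let e : PicF.XT x (TA (Art.base k k)) ⟶ X := pullback.fst x (TA (Art.base k k)).hom
  haveI : IsIso e := isIso_fst_base X x
  let Z := PicF.XT x (TA (Art.base k k))
  haveI : IsLocallyNoetherian X := LocallyOfFiniteType.isLocallyNoetherian x
  haveI := Quot8.isLocallyNoetherian_XT x (T := TA (Art.base k k))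
  haveI := (Coherent.isCoh_structureModule Z).1
  let F := Scheme.Modules.pullback e
  let θ : OX X ≅ Coh.structureModule X := Iso.refl _
  let θ' := F.mapIso θ ≪≫ PicLoc.pullbackStructureIso e
  let q := Quot8.qI θ I₀
  haveI : Epi (F.map q) := F.map_epi q
  obtain ⟨J₀, hJ₀⟩ := Quot8.exists_eq_KI θ' (F.map q) (ZClosLib.isCoh_pullback e _ (CurveRR24.isCoh_quotMod I₀))
  have hker : imageSubobject (F.map (Quot8.KI θ I₀).arrow) = kernelSubobject (F.map q) := by
    let S₀ : ShortComplex X.Modules :=
      ShortComplex.mk (kernelSubobject q).arrow q (kernelSubobject_arrow_comp q)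
    have h0 : S₀.Exact := (ShortComplex.exact_iff_of_iso
      (ShortComplex.isoMk (S₁ := S₀) (S₂ := ShortComplex.kernelSequence q) (kernelSubobjectIso q) (Iso.refl _)
        (Iso.refl _) (by simp [S₀]) (by simp [S₀]))).2 (ShortComplex.kernelSequence_exact q)
    exact (ShortComplex.exact_iff_image_eq_kernel (S₀.map F)).1 (h0.map F)
  have hJ : J₀ = I₀.comap e := by
    refine le_antisymm ?_ ?_
    · have h1 := (Quot8.image_pullback_KI_le_iff θ e I₀ (I₀.comap e)).2 le_rfl
      rw [hker, hJ₀] at h1
      exact (Quot8.KI_le_iff θ' _ _).1 h1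
    · refine (Quot8.image_pullback_KI_le_iff θ e I₀ J₀).1 ?_
      rw [hker, hJ₀]
  have hK : KofI X x (I₀.comap e) = kernelSubobject (F.map q) := by
    rw [hJ₀, hJ]
    exact Quot8.KI_congr θ' (Quot8.thetaT x (TA (Art.base k k))) _
  obtain ⟨i, -⟩ := Quot8.exists_cokernel_kernelSubobject_iso (F.map q)
  refine ⟨⟨?_⟩, ⟨i.symm ≪≫ eqToIso (congrArg (fun K : Subobject _ => cokernel K.arrow) hK.symm)⟩⟩
  exact F.mapIso (kernel.mapIso (ClSub.toSubscheme I₀) q (Iso.refl _) (Iso.refl _) (by simp [q, Quot8.qI, θ])) ≪≫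
    PreservesKernel.iso F q ≪≫ (kernelSubobjectIso (F.map q)).symm ≪≫
    eqToIso (congrArg (fun K : Subobject _ => (K : Z.Modules)) hK.symm)

/-- Embedded deformations extend when extensions of the ideal by the quotient split. -/
theorem localHilb_map_surjective (I₀ : X.IdealSheafData) (h : Splits (ClSub.quotMod I₀) (ClSub.idealMod I₀))
    {B A : Art k k} (p : B ⟶ A) (hp : Function.Surjective p) :
    Function.Surjective ((localHilb X x I₀).map p) := by
  rintro ⟨I, hI, hI₀⟩
  haveI : IsLocallyNoetherian X := LocallyOfFiniteType.isLocallyNoetherian x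
  obtain ⟨K, hK⟩ := exists_quotSet_KofI X x (A := A) hI
  obtain ⟨⟨eK⟩, ⟨eQ⟩⟩ := exists_fibre_iso_ideal X x I₀
  obtain ⟨K', hK'⟩ := exists_extension_surjective x (OX X) (Coherent.isCoh_structureModule X) p hp K
    (by rw [hK, fibreK_KofI X x hI₀]; exact (h.pullback_iso _).of_iso eQ eK)
  obtain ⟨I', hI', hK'I⟩ := exists_ideal_of_quotSet X x K'
  rw [hK'I, quotPull_KofI, hK] at hK'
  have hp' := KofI_injective X x A hK'
  refine ⟨⟨I', hI', ?_⟩, Subtype.ext hp'⟩
  rw [← hI₀, ← hp', ← Scheme.IdealSheafData.comap_comp, Art.XAincl_XAmap]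

/-- Embedded deformations are unique when homomorphisms from the ideal to the quotient vanish. -/
theorem localHilb_map_injective (I₀ : X.IdealSheafData) (h : HomZero (ClSub.idealMod I₀) (ClSub.quotMod I₀))
    {B A : Art k k} (p : B ⟶ A) (hp : Function.Surjective p) :
    Function.Injective ((localHilb X x I₀).map p) := by
  rintro ⟨I, hI, hI₀⟩ ⟨I', hI', hI₀'⟩ he
  obtain ⟨K, hK⟩ := exists_quotSet_KofI X x (A := B) hI
  obtain ⟨K', hK'⟩ := exists_quotSet_KofI X x (A := B) hI'
  obtain ⟨⟨eK⟩, ⟨eQ⟩⟩ := exists_fibre_iso_ideal X x I₀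
  have he' : I.comap (Art.XAmap x p) = I'.comap (Art.XAmap x p) := congrArg Subtype.val he
  have h1 := extension_unique_surjective x (OX X) p hp K K' (by rw [hK, hK', quotPull_KofI, quotPull_KofI, he'])
    (by rw [hK, fibreK_KofI X x hI₀]; exact (h.pullback_iso _).of_iso eK eQ)
  rw [hK, hK'] at h1
  exact Subtype.ext (KofI_injective X x B h1)

end Groth.Agent.ArtFunLib.QuotLift

end
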