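import Groth.Agent.Coherent.CohBC.ClosedFibreMono
import Groth.Agent.ModelLib7.SpecialFibre
import Groth.Agent.DCat.ClosedPush
import Groth.Prelude.Def_TwSh

/-!
# The unit of inverse image on stalks, and the action of the base ring
-/

set_option autoImplicit false
set_option backward.isDefEq.respectTransparency false
set_option backward.isDefEq.respectTransparency.types false
set_option linter.style.haveILetI false

universe u

open CategoryTheory CategoryTheory.Limits AlgebraicGeometry Opposite TopologicalSpace TensorProduct Function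
open IsLocalRing

noncomputable section

namespace Groth.Agent.ArtFunLib.QuotLift

/-- The stalk as a module over the local ring. -/
abbrev St {X : Scheme.{u}} (M : X.Modules) (x : X) : ModuleCat.{u} (X.presheaf.stalk x) :=
  (DerSch.stalkFunctor X x).obj M

/-- The map on stalks, linear over the local ring. -/
abbrev stk {X : Scheme.{u}} {M N : X.Modules} (v : M ⟶ N) (x : X) : St M x →ₗ[X.presheaf.stalk x] St N x :=
  ((DerSch.stalkFunctor X x).map v).hom

theorem stk_comp {X : Scheme.{u}} {L M N : X.Modules} (v : L ⟶ M) (w : M ⟶ N) (x : X) (s : St L x) :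
    stk (v ≫ w) x s = stk w x (stk v x s) := by
  simp [stk, Functor.map_comp]

theorem stk_id {X : Scheme.{u}} {M : X.Modules} (x : X) (s : St M x) : stk (𝟙 M) x s = s :=
  ConcreteCategory.congr_hom ((DerSch.stalkFunctor X x).map_id M) s

theorem stk_zero {X : Scheme.{u}} {M N : X.Modules} (x : X) (s : St M x) : stk (0 : M ⟶ N) x s = 0 := by
  simp [stk]

theorem hom_eq_zero_of_stk {X : Scheme.{u}} {M N : X.Modules} (v : M ⟶ N) (h : ∀ x s, stk v x s = 0) : v = 0 := by
  have hm : Mono (kernel.ι v) := inferInstance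
  haveI : Epi (kernel.ι v) := Coherent.CohBC.epi_of_surjective_stalks _ fun x s => by
    have hex := (ShortComplex.kernelSequence_exact v).map (DerSch.stalkFunctor X x)
    exact (ShortComplex.moduleCat_exact_iff _).1 hex s (h x s)
  rw [← cancel_epi (kernel.ι v), kernel.condition, comp_zero]

theorem injective_stk {X : Scheme.{u}} {M N : X.Modules} (v : M ⟶ N) [Mono v] (x : X) : Injective (stk v x) :=
  (ModuleCat.mono_iff_injective _).1 (inferInstance : Mono ((DerSch.stalkFunctor X x).map v))

theorem surjective_stk {X : Scheme.{u}} {M N : X.Modules} (v : M ⟶ N) [Epi v] (x : X) : Surjective (stk v x) :=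
  (ModuleCat.epi_iff_surjective _).1 (inferInstance : Epi ((DerSch.stalkFunctor X x).map v))

theorem exists_preimage_of_exact {X : Scheme.{u}} (S : ShortComplex X.Modules) (hS : S.Exact) (x : X) (s : St S.X₂ x)
    (hs : stk S.g x s = 0) : ∃ r, stk S.f x r = s :=
  (ShortComplex.moduleCat_exact_iff _).1 (hS.map (DerSch.stalkFunctor X x)) s hs

theorem exact_stk_kernel {X : Scheme.{u}} {M N : X.Modules} (v : M ⟶ N) (x : X) :
    Function.Exact (stk (kernel.ι v) x) (stk v x) := fun s => by
  refine ⟨fun h => exists_preimage_of_exact _ (ShortComplex.kernelSequence_exact v) x s h, ?_⟩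
  rintro ⟨r, rfl⟩
  rw [← stk_comp, kernel.condition, stk_zero]

section Unit

variable {Z X : Scheme.{u}} (σ : Z ⟶ X) (z : Z)

/-- The unit of inverse image on stalks. -/
def unitSt (F : X.Modules) : St F (σ z) →+ St ((Scheme.Modules.pullback σ).obj F) z where
  toFun m := ((ModStalk.pullbackStalkIso σ z).inv.app F).hom
    (show (ModuleCat.extendScalars (σ.stalkMap z).hom).obj (St F (σ z)) from
      letI := (σ.stalkMap z).hom.toAlgebra
      (1 : Z.presheaf.stalk z) ⊗ₜ[X.presheaf.stalk (σ z)] m)
  map_zero' := by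
    simp only [tmul_zero]
    exact map_zero _
  map_add' a b := by
    simp only [tmul_add]
    exact map_add _ _ _

theorem unitSt_natural {F G : X.Modules} (v : F ⟶ G) (m : St F (σ z)) :
    stk ((Scheme.Modules.pullback σ).map v) z (unitSt σ z F m) = unitSt σ z G (stk v (σ z) m) := by
  letI := (σ.stalkMap z).hom.toAlgebra
  exact (ConcreteCategory.congr_hom ((ModStalk.pullbackStalkIso σ z).inv.naturality v) _).symm.trans
    (congrArg ((ModStalk.pullbackStalkIso σ z).inv.app G).hom
      (ModuleCat.ExtendScalars.map_tmul _ ((DerSch.stalkFunctor X (σ z)).map v) 1 m))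

theorem unitSt_smul (F : X.Modules) (r : X.presheaf.stalk (σ z)) (m : St F (σ z)) :
    unitSt σ z F (r • m) = (σ.stalkMap z).hom r • unitSt σ z F m := by
  letI := (σ.stalkMap z).hom.toAlgebra
  refine Eq.trans (congrArg ((ModStalk.pullbackStalkIso σ z).inv.app F).hom ?_)
    (((ModStalk.pullbackStalkIso σ z).inv.app F).hom.map_smul ((σ.stalkMap z).hom r) _)
  show (1 : Z.presheaf.stalk z) ⊗ₜ[X.presheaf.stalk (σ z)] (r • m) =
    ((σ.stalkMap z).hom r * 1) ⊗ₜ[X.presheaf.stalk (σ z)] m
  rw [← smul_tmul, Algebra.smul_def]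
  rfl

variable [IsClosedImmersion σ]

theorem unitSt_surjective (F : X.Modules) : Surjective (unitSt σ z F) := by
  intro w
  letI := (σ.stalkMap z).hom.toAlgebra
  obtain ⟨m, hm⟩ := DCat.ClosedPush.extend_unit_surjective (σ.stalkMap z).hom (σ.stalkMap_surjective z) _
    (((ModStalk.pullbackStalkIso σ z).hom.app F).hom w)
  refine ⟨m, ?_⟩
  refine (congrArg ((ModStalk.pullbackStalkIso σ z).inv.app F).hom hm).trans ?_
  exact ConcreteCategory.congr_hom ((ModStalk.pullbackStalkIso σ z).hom_inv_id_app F) w

theorem unitSt_eq_zero_iff (F : X.Modules) (m : St F (σ z)) :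
    unitSt σ z F m = 0 ↔
      m ∈ RingHom.ker (σ.stalkMap z).hom • (⊤ : Submodule (X.presheaf.stalk (σ z)) (St F (σ z))) := by
  letI := (σ.stalkMap z).hom.toAlgebra
  refine Iff.trans ?_ (Coherent.CohBC.tmul_one_eq_zero_iff (C := Z.presheaf.stalk z) (σ.stalkMap_surjective z) m)
  refine ⟨fun h => ?_, fun h => (congrArg ((ModStalk.pullbackStalkIso σ z).inv.app F).hom h).trans (map_zero _)⟩
  exact (ConcreteCategory.bijective_of_isIso ((ModStalk.pullbackStalkIso σ z).inv.app F)).1 (h.trans (map_zero _).symm)

/-- A morphism to a direct image vanishes on a stalk exactly when its adjoint does. -/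
theorem stk_eq_zero_iff_of_adjoint {F : X.Modules} {N : Z.Modules}
    (φ : (Scheme.Modules.pullback σ).obj F ⟶ N) (m : St F (σ z)) :
    stk ((Scheme.Modules.pullbackPushforwardAdjunction σ).homEquiv _ _ φ) (σ z) m = 0 ↔
      stk φ z (unitSt σ z F m) = 0 := by
  let ad := Scheme.Modules.pullbackPushforwardAdjunction σ
  set ψ := ad.homEquiv _ _ φ
  haveI := DCat.ClosedPush.isIso_counit σ N
  have hbij : Injective (stk (ad.counit.app N) z) := injective_stk _ z
  have he : φ = (Scheme.Modules.pullback σ).map ψ ≫ ad.counit.app N :=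
    ((ad.homEquiv _ _).symm_apply_apply φ).symm.trans (ad.homEquiv_counit _ _ _)
  rw [he, stk_comp, unitSt_natural]
  refine ⟨fun h => by rw [h, map_zero, map_zero], fun h => ?_⟩
  replace h := (unitSt_eq_zero_iff σ z _ _).1 (hbij (h.trans (map_zero _).symm))
  refine Submodule.smul_induction_on h (fun r hr t _ => ?_) fun a b ha hb => by rw [ha, hb, add_zero]
  exact DCat.ClosedPush.smul_stalk_push σ N z r hr t

end Unit

section Base

variable {R : Type u} [CommRing R] {X : Scheme.{u}} (p : X ⟶ Spec (CommRingCat.of R))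

/-- The base ring acting on the local ring. -/
abbrev rho (x : X) : R →+* X.presheaf.stalk x := (X.presheaf.germ ⊤ x trivial).hom.comp (Coh.toGlobal p)

/-- The stalk as a module over the base ring. -/
abbrev baseMod (M : X.Modules) (x : X) : Module R (St M x) := Module.compHom (St M x) (rho p x)

theorem baseMod_smul (M : X.Modules) (x : X) (r : R) (m : St M x) :
    (letI := baseMod p M x; r • m) = rho p x r • m := rfl

/-- The map on stalks, linear over the base ring. -/
def stkR {M N : X.Modules} (v : M ⟶ N) (x : X) :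
    letI := baseMod p M x
    letI := baseMod p N x
    St M x →ₗ[R] St N x :=
  letI := baseMod p M x
  letI := baseMod p N x
  { toFun := stk v x
    map_add' := map_add _
    map_smul' := fun r m => (stk v x).map_smul (rho p x r) m }

theorem stk_scalarEnd (M : X.Modules) (r : R) (x : X) (m : St M x) :
    stk (TwSh.scalarEnd M (Coh.toGlobal p r)) x m = rho p x r • m := by
  obtain ⟨U, hxU, a, rfl⟩ := M.presheaf.exists_germ_eq m
  refine (EGA43.InjCokerFlat.stalkMapOf_germ _ hxU a).trans ?_
  rw [TwSh.scalarEnd_app_apply, QCohLoc.germ_smul']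
  exact congrArg (· • _) (TopCat.Presheaf.germ_res_apply X.presheaf _ x hxU _)

variable [IsLocalRing R] [IsArtinianRing R]

/-- Over an Artinian local ring flatness on stalks is flatness over the base ring. -/
theorem isFlatOverAt_iff_flat (M : X.Modules) (x : X) :
    FlatMod.IsFlatOverAt p M x ↔ (letI := baseMod p M x; Module.Flat R (St M x)) := by
  let O := (Spec (CommRingCat.of R)).presheaf.stalk (p x)
  letI : Algebra R O := (StructureSheaf.toStalk R (p x)).hom.toAlgebra
  haveI : IsLocalization (p x).asIdeal.primeCompl O := StructureSheaf.IsLocalization.to_stalk R (p x)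
  letI hO : Module O (St M x) := FlatMod.moduleStalkOver p M x
  letI := baseMod p M x
  haveI : IsScalarTower R O (St M x) := IsScalarTower.of_algebraMap_smul fun r m => by
    show (p.stalkMap x).hom (algebraMap R O r) • m = rho p x r • m
    refine congrArg (· • m) ?_
    exact (ModelLib7.germ_toGlobal p x r).symm
  show Module.Flat O (St M x) ↔ Module.Flat R (St M x)
  exact Module.flat_iff_of_isLocalization (R := R) O (p x).asIdeal.primeCompl (St M x)

end Base

section Square

variable {R R' : Type u} [CommRing R] [CommRing R'] {X X' : Scheme.{u}} {p : X ⟶ Spec (CommRingCat.of R)}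
  {p' : X' ⟶ Spec (CommRingCat.of R')} {σ : X' ⟶ X} {φ : R →+* R'}

theorem toGlobal_natural (w : σ ≫ p = p' ≫ Spec.map (CommRingCat.ofHom φ)) (r : R) :
    σ.appTop.hom (Coh.toGlobal p r) = Coh.toGlobal p' (φ r) := by
  have h1 : p.appTop ≫ σ.appTop = (Spec.map (CommRingCat.ofHom φ)).appTop ≫ p'.appTop := by
    rw [← Scheme.Hom.comp_appTop, w, Scheme.Hom.comp_appTop]
  have h2 := Scheme.ΓSpecIso_inv_naturality (CommRingCat.ofHom φ)
  have h3 : (Scheme.ΓSpecIso (CommRingCat.of R)).inv ≫ p.appTop ≫ σ.appTop =
      CommRingCat.ofHom φ ≫ (Scheme.ΓSpecIso (CommRingCat.of R')).inv ≫ p'.appTop := by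
    rw [h1, ← Category.assoc, ← h2, Category.assoc]
  exact ConcreteCategory.congr_hom h3 r

theorem stalkMap_rho (w : σ ≫ p = p' ≫ Spec.map (CommRingCat.ofHom φ)) (z : X') (r : R) :
    (σ.stalkMap z).hom (rho p (σ z) r) = rho p' z (φ r) :=
  (Scheme.Hom.germ_stalkMap_apply σ ⊤ z trivial _).trans
    (congrArg (X'.presheaf.germ ⊤ z trivial).hom (toGlobal_natural w r))

/-- The ideal of a base change along a surjection of rings. -/
theorem ker_stalkMap_of_isPullback (hφ : Surjective φ) (h : IsPullback σ p' p (Spec.map (CommRingCat.ofHom φ))) (z : X') :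
    RingHom.ker (σ.stalkMap z).hom = (RingHom.ker φ).map (rho p (σ z)) := by
  let i := Spec.map (CommRingCat.ofHom φ)
  haveI : IsClosedImmersion i := IsClosedImmersion.spec_of_surjective _ hφ
  haveI : IsClosedImmersion (pullback.fst p i) := MorphismProperty.pullback_fst _ _ inferInstance
  have key : ∀ w, RingHom.ker ((pullback.fst p i).stalkMap w).hom =
      (RingHom.ker φ).map (rho p (pullback.fst p i w)) := fun w => by
    rw [FBaseLib.StalkLength.ker_stalkMap_fst p i w ⟨⊤, isAffineOpen_top _⟩ trivial, Scheme.Hom.ker_apply]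
    have hker : RingHom.ker (i.app ⊤).hom =
        (RingHom.ker φ).map (Scheme.ΓSpecIso (CommRingCat.of R)).inv.hom := by
      let e := (Scheme.ΓSpecIso (CommRingCat.of R)).commRingCatIsoToRingEquiv
      let e' := (Scheme.ΓSpecIso (CommRingCat.of R')).commRingCatIsoToRingEquiv
      have h1 : e'.toRingHom.comp (i.app ⊤).hom = φ.comp e.toRingHom :=
        congrArg CommRingCat.Hom.hom (Scheme.ΓSpecIso_naturality (CommRingCat.ofHom φ))
      rw [← RingHom.ker_comp_of_injective (i.app ⊤).hom (f := e'.toRingHom) e'.injective, h1, ← RingHom.comap_ker]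
      exact (Ideal.map_symm e).symm
    rw [hker, Ideal.map_map, Ideal.map_map]
    congr 1
    exact RingHom.ext fun r => (ModelLib7.germ_toGlobal p _ r).symm
  obtain ⟨e, rfl⟩ : ∃ e : X' ≅ pullback p i, σ = e.hom ≫ pullback.fst p i :=
    ⟨h.isoPullback, (h.isoPullback_hom_fst).symm⟩
  rw [Scheme.Hom.stalkMap_comp, CommRingCat.hom_comp, RingHom.ker_comp_of_injective _
    (ConcreteCategory.bijective_of_isIso (e.hom.stalkMap z)).1, key]
  rfl

end Square

end Groth.Agent.ArtFunLib.QuotLift

end
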