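import Groth.Agent.ArtFunLib.QuotLift.Algebra
import Groth.Agent.ArtFunLib.QuotLift.StalkUnit
import Groth.Agent.CAlgH3.ArtinRegular

/-!
# A small thickening of the base and the stalks of the total space
-/

set_option autoImplicit false
set_option backward.isDefEq.respectTransparency false
set_option backward.isDefEq.respectTransparency.types false
set_option linter.style.haveILetI false

universe u

open CategoryTheory CategoryTheory.Limits AlgebraicGeometry Function IsLocalRing

noncomputable section

namespace Groth.Agent.ArtFunLib.QuotLift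

variable {R : Type u} [CommRing R] {X : Scheme.{u}} (p : X ⟶ Spec (CommRingCat.of R))

/-- Membership in `I M` for the module over the base ring. -/
theorem mem_map_smul_iff (M : X.Modules) (x : X) (I : Ideal R) (m : St M x) :
    m ∈ I.map (rho p x) • (⊤ : Submodule (X.presheaf.stalk x) (St M x)) ↔
      (letI := baseMod p M x; m ∈ (I • ⊤ : Submodule R (St M x))) := by
  letI := baseMod p M x
  letI : Algebra R (X.presheaf.stalk x) := (rho p x).toAlgebra
  haveI : IsScalarTower R (X.presheaf.stalk x) (St M x) := IsScalarTower.of_algebraMap_smul fun _ _ => rfl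
  exact CAlgH3.mem_map_smul_top_iff (S := X.presheaf.stalk x) I m

variable {R' : Type u} [CommRing R'] {X' : Scheme.{u}} {p' : X' ⟶ Spec (CommRingCat.of R')} {σ : X' ⟶ X} {φ : R →+* R'}
  [IsClosedImmersion σ]

theorem unitSt_eq_zero_iff_base (hφ : Surjective φ) (h : IsPullback σ p' p (Spec.map (CommRingCat.ofHom φ))) (z : X')
    (F : X.Modules) (m : St F (σ z)) :
    unitSt σ z F m = 0 ↔
      (letI := baseMod p F (σ z); m ∈ (RingHom.ker φ • ⊤ : Submodule R (St F (σ z)))) := by
  rw [unitSt_eq_zero_iff, ker_stalkMap_of_isPullback hφ h z]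
  exact mem_map_smul_iff p F (σ z) _ m

omit [IsClosedImmersion σ] in
theorem unitSt_smul_base (h : IsPullback σ p' p (Spec.map (CommRingCat.ofHom φ))) (z : X') (F : X.Modules) (r : R)
    (m : St F (σ z)) :
    unitSt σ z F (rho p (σ z) r • m) = rho p' z (φ r) • unitSt σ z F m := by
  rw [unitSt_smul, stalkMap_rho h.w]

variable [IsLocalRing R'] [IsArtinianRing R']

/-- A direct image of a module flat over `R'` is free over `R'` on stalks. -/
theorem freeMod_push (hφ : Surjective φ) (h : IsPullback σ p' p (Spec.map (CommRingCat.ofHom φ))) (N : X'.Modules)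
    (hN : FlatMod.IsFlatOver p' N) (z : X') :
    letI := baseMod p ((Scheme.Modules.pushforward σ).obj N) (σ z)
    FreeMod (RingHom.ker φ) (St ((Scheme.Modules.pushforward σ).obj N) (σ z)) := by
  let M := (Scheme.Modules.pushforward σ).obj N
  letI := baseMod p M (σ z)
  letI := baseMod p' N z
  haveI := DCat.ClosedPush.isIso_counit σ N
  let ε := (Scheme.Modules.pullbackPushforwardAdjunction σ).counit.app N
  let e : St M (σ z) →+ St N z := (stk ε z).toAddMonoidHom.comp (unitSt σ z M)
  have hkill : ∀ a ∈ RingHom.ker φ, ∀ y : St M (σ z), a • y = 0 := fun a ha y =>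
    DCat.ClosedPush.smul_stalk_push σ N z _ ((stalkMap_rho h.w z a).trans (by rw [RingHom.mem_ker.1 ha, map_zero])) y
  have hsmul : ∀ (r : R) (y : St M (σ z)), e (r • y) = φ r • e y := fun r y => by
    show stk ε z (unitSt σ z M (rho p (σ z) r • y)) = rho p' z (φ r) • stk ε z (unitSt σ z M y)
    exact (congrArg (stk ε z) (unitSt_smul_base p h z M r y)).trans ((stk ε z).map_smul _ _)
  have hinj : Injective e := (injective_iff_map_eq_zero e).2 fun y hy => by
    have hy' : unitSt σ z M y = 0 := injective_stk ε z (hy.trans (map_zero _).symm)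
    rw [unitSt_eq_zero_iff_base p hφ h] at hy'
    exact Submodule.smul_induction_on hy' (fun a ha w _ => hkill a ha w) fun a b ha hb => by rw [ha, hb, add_zero]
  have hsurj : Surjective e := (surjective_stk ε z).comp (unitSt_surjective σ z M)
  haveI : Module.Flat R' (St N z) := (isFlatOverAt_iff_flat p' N z).1 (hN z)
  haveI := CAlgH3.free_of_flat_artinian (A := R') (St N z)
  let b := Module.Free.chooseBasis R' (St N z)
  choose y hy using fun i => hsurj (b i)
  refine ⟨hkill, _, y, Submodule.eq_top_iff'.2 fun m => ?_, fun c hc i => ?_⟩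
  · choose l hl using fun i => hφ (b.repr (e m) i)
    have hm : m = ∑ i ∈ (b.repr (e m)).support, l i • y i := hinj (by
      rw [map_sum]
      simp only [hsmul, hl, hy]
      exact (b.linearCombination_repr (e m)).symm)
    rw [hm]
    exact Submodule.sum_mem _ fun i _ => Submodule.smul_mem _ _ (Submodule.subset_span ⟨i, rfl⟩)
  · have h0 : Finsupp.linearCombination R' b (c.mapRange φ (map_zero φ)) = 0 := by
      rw [Finsupp.linearCombination_apply, Finsupp.sum_mapRange_index fun i => zero_smul R' (b i)]
      rw [← map_zero e, ← hc, Finsupp.linearCombination_apply, map_finsuppSum]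
      exact Finsupp.sum_congr fun i _ => by rw [hsmul, hy]
    have h1 := DFunLike.congr_fun (linearIndependent_iff.1 b.linearIndependent _ h0) i
    rw [Finsupp.mapRange_apply, Finsupp.zero_apply] at h1
    exact RingHom.mem_ker.2 h1

end Groth.Agent.ArtFunLib.QuotLift

end
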